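import Cfsg.Agent.R2.T1.Inf.LForm
import Cfsg.Agent.DS.Nt.Kac
import Cfsg.Agent.ChevFast.E7
import Cfsg.Agent.Cam.Red.Count_m3
import Cfsg.Agent.Lib.GenFitting
import Cfsg.Agent.Cam.F42.Swap
import Cfsg.Agent.Cam.Spor.BSev
import Cfsg.Agent.H270.EPU.Rank
import Cfsg.Agent.CpAutHNFive.Main
import Cfsg.Agent.S0204
import Cfsg.Agent.Cam.Ex.U2_m3
import Cfsg.Agent.Cam.Ex.RE_m3
import Cfsg.Agent.S2123
import Cfsg.Agent.S2159
import Cfsg.Agent.Cam.Odd.One_mg_m3
import Cfsg.Agent.Cam.Ex.Fin5_m3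
import Mathlib
import Cfsg.Agent.ChevalleyStructure.JacAll
import Cfsg.Agent.R2.T1.Five.Adj
import Cfsg.Agent.R2.T1.Inf.Dia
import Cfsg.Agent.H378.UnipCent
import Cfsg.Agent.Cam.Ex.PBox_mg
import Cfsg.Agent.FastGrp
import Cfsg.Agent.Prune
set_option linter.all false

section
prune_inst 0x7ffcbcfb2bf8bddeffff7e7faed5dffdd9b8ffffe6dff9cb7fe063ff2b9f6b0889c5fbad89e090fe1ef6e29c10b87853fbfffeffe86bfc7ffffd5ff41ffbee1ff5f6350c719cacb41ffc4ff78bf0778e7f3fffffffffffffffffffffffffffbeffffffffffff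

-- part: Cam/Odd/NTTab
section
prune_inst 0x34304d407422100000180512820022247000019000200800b8c00d42010f3322a040214046b01c00108626402830004000100070400000000a0004000006000018aa10063100a000280086002084000000000000000000000000000000041000000000000
set_option linter.all false
open scoped Cfsg.Agent.FastGrp

/-!
# S3689, `BoxNT`: tables for the roots of `E₇` (helper86)
-/

set_option autoImplicit false
set_option linter.unusedVariables false
set_option maxRecDepth 100000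

namespace Cfsg.Agent.Cam.Odd.NT

open Cfsg Cfsg.Lie
open Cfsg.Agent.ChevalleyStructure Cfsg.Agent.ChevalleyStructure.Columns Cfsg.Agent.ChevalleyStructure.RootVec
open Cfsg.Agent.Nodes.RGDChev Cfsg.Agent.R2.T1

/-- the height of a root -/
def hg (r : ℕ) : ℤ := ∑ j ∈ Finset.range 7, rt chevE7 r j

/-- the height of a basis vector -/
def lvl : chevE7.Idx → ℤ := Sum.elim (fun _ => 0) fun r : Fin chevE7.nroots => hg r.val

theorem hg_cf {r s u : ℕ} (hr : r < 126) (h : cf r s u ≠ 0) : hg u = hg r + hg s := by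
  have h1 : (chevE7.chainEntry r s)[0]? = some (u, cf r s u) := by rw [F7_eq, cf_ne hr h]; rfl
  have h2 := (chainEntry_get RootVecTab.checked_E7 h1).2.2.2
  rw [hg, hg, hg, ← Finset.sum_add_distrib]
  refine Finset.sum_congr rfl fun j _ => (h2 j).trans ?_
  push_cast
  ring

theorem hg_neg (r : ℕ) (hr : r < 126) : hg (125 - r) = -hg r := by
  have h1 : chevE7.neg r = 125 - r := neg7 hr
  rw [hg, hg, ← Finset.sum_neg_distrib, ← h1]
  exact Finset.sum_congr rfl fun j _ => rt_neg RootVecTab.checked_E7 hr j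

theorem hg_pos (r : ℕ) (hr : r < 126) (h : ∀ j < 7, 0 ≤ rt chevE7 r j) : 1 ≤ hg r := by
  obtain ⟨i, hi, h1⟩ := exists_rt_ne_zero RootVecTab.checked_E7 (D := chevE7) hr
  have hi' : i < 7 := hi
  have h2 := Finset.single_le_sum (f := rt chevE7 r) (fun j hj => h j (Finset.mem_range.1 hj)) (Finset.mem_range.2 hi')
  have h3 := h i hi'
  rw [hg]
  omega

/-- an entry of the table -/
def en (a b c d e f g h i j k l m n : ℤ) : List ℤ × List ℤ := ([a, b, c, d, e, f, g], [h, i, j, k, l, m, n])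

/-- the coordinates of the roots on the simple roots, and their values on the simple coroots -/
def dat : List (List ℤ × List ℤ) :=
  [en (-2) (-2) (-3) (-4) (-3) (-2) (-1) (-1) 0 0 0 0 0 0, en (-1) (-2) (-3) (-4) (-3) (-2) (-1) 1 0 (-1) 0 0 0 0,
   en (-1) (-2) (-2) (-4) (-3) (-2) (-1) 0 0 1 (-1) 0 0 0, en (-1) (-2) (-2) (-3) (-3) (-2) (-1) 0 (-1) 0 1 (-1) 0 0,
   en (-1) (-2) (-2) (-3) (-2) (-2) (-1) 0 (-1) 0 0 1 (-1) 0, en (-1) (-2) (-2) (-3) (-2) (-1) (-1) 0 (-1) 0 0 0 1 (-1),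
   en (-1) (-2) (-2) (-3) (-2) (-1) 0 0 (-1) 0 0 0 0 1, en (-1) (-1) (-2) (-3) (-3) (-2) (-1) 0 1 0 0 (-1) 0 0,
   en (-1) (-1) (-2) (-3) (-2) (-2) (-1) 0 1 0 (-1) 1 (-1) 0, en (-1) (-1) (-2) (-3) (-2) (-1) (-1) 0 1 0 (-1) 0 1 (-1),
   en (-1) (-1) (-2) (-3) (-2) (-1) 0 0 1 0 (-1) 0 0 1, en (-1) (-1) (-2) (-2) (-2) (-2) (-1) 0 0 (-1) 1 0 (-1) 0,
   en (-1) (-1) (-2) (-2) (-2) (-1) (-1) 0 0 (-1) 1 (-1) 1 (-1), en (-1) (-1) (-2) (-2) (-2) (-1) 0 0 0 (-1) 1 (-1) 0 1,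
   en (-1) (-1) (-2) (-2) (-1) (-1) (-1) 0 0 (-1) 0 1 0 (-1), en (-1) (-1) (-2) (-2) (-1) (-1) 0 0 0 (-1) 0 1 (-1) 1,
   en (-1) (-1) (-2) (-2) (-1) 0 0 0 0 (-1) 0 0 1 0, en (-1) (-1) (-1) (-2) (-2) (-2) (-1) (-1) 0 1 0 0 (-1) 0,
   en (-1) (-1) (-1) (-2) (-2) (-1) (-1) (-1) 0 1 0 (-1) 1 (-1), en (-1) (-1) (-1) (-2) (-2) (-1) 0 (-1) 0 1 0 (-1) 0 1,
   en (-1) (-1) (-1) (-2) (-1) (-1) (-1) (-1) 0 1 (-1) 1 0 (-1), en (-1) (-1) (-1) (-2) (-1) (-1) 0 (-1) 0 1 (-1) 1 (-1) 1,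
   en (-1) (-1) (-1) (-2) (-1) 0 0 (-1) 0 1 (-1) 0 1 0, en (-1) (-1) (-1) (-1) (-1) (-1) (-1) (-1) (-1) 0 1 0 0 (-1),
   en (-1) (-1) (-1) (-1) (-1) (-1) 0 (-1) (-1) 0 1 0 (-1) 1, en (-1) (-1) (-1) (-1) (-1) 0 0 (-1) (-1) 0 1 (-1) 1 0,
   en (-1) (-1) (-1) (-1) 0 0 0 (-1) (-1) 0 0 1 0 0, en (-1) 0 (-1) (-1) (-1) (-1) (-1) (-1) 1 0 0 0 0 (-1),
   en (-1) 0 (-1) (-1) (-1) (-1) 0 (-1) 1 0 0 0 (-1) 1, en (-1) 0 (-1) (-1) (-1) 0 0 (-1) 1 0 0 (-1) 1 0,
   en (-1) 0 (-1) (-1) 0 0 0 (-1) 1 0 (-1) 1 0 0, en (-1) 0 (-1) 0 0 0 0 (-1) 0 (-1) 1 0 0 0,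
   en (-1) 0 0 0 0 0 0 (-2) 0 1 0 0 0 0, en 0 (-1) (-1) (-2) (-2) (-2) (-1) 1 0 0 0 0 (-1) 0,
   en 0 (-1) (-1) (-2) (-2) (-1) (-1) 1 0 0 0 (-1) 1 (-1), en 0 (-1) (-1) (-2) (-2) (-1) 0 1 0 0 0 (-1) 0 1,
   en 0 (-1) (-1) (-2) (-1) (-1) (-1) 1 0 0 (-1) 1 0 (-1), en 0 (-1) (-1) (-2) (-1) (-1) 0 1 0 0 (-1) 1 (-1) 1,
   en 0 (-1) (-1) (-2) (-1) 0 0 1 0 0 (-1) 0 1 0, en 0 (-1) (-1) (-1) (-1) (-1) (-1) 1 (-1) (-1) 1 0 0 (-1),
   en 0 (-1) (-1) (-1) (-1) (-1) 0 1 (-1) (-1) 1 0 (-1) 1, en 0 (-1) (-1) (-1) (-1) 0 0 1 (-1) (-1) 1 (-1) 1 0,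
   en 0 (-1) (-1) (-1) 0 0 0 1 (-1) (-1) 0 1 0 0, en 0 (-1) 0 (-1) (-1) (-1) (-1) 0 (-1) 1 0 0 0 (-1),
   en 0 (-1) 0 (-1) (-1) (-1) 0 0 (-1) 1 0 0 (-1) 1, en 0 (-1) 0 (-1) (-1) 0 0 0 (-1) 1 0 (-1) 1 0,
   en 0 (-1) 0 (-1) 0 0 0 0 (-1) 1 (-1) 1 0 0, en 0 (-1) 0 0 0 0 0 0 (-2) 0 1 0 0 0,
   en 0 0 (-1) (-1) (-1) (-1) (-1) 1 1 (-1) 0 0 0 (-1), en 0 0 (-1) (-1) (-1) (-1) 0 1 1 (-1) 0 0 (-1) 1,
   en 0 0 (-1) (-1) (-1) 0 0 1 1 (-1) 0 (-1) 1 0, en 0 0 (-1) (-1) 0 0 0 1 1 (-1) (-1) 1 0 0,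
   en 0 0 (-1) 0 0 0 0 1 0 (-2) 1 0 0 0, en 0 0 0 (-1) (-1) (-1) (-1) 0 1 1 (-1) 0 0 (-1),
   en 0 0 0 (-1) (-1) (-1) 0 0 1 1 (-1) 0 (-1) 1, en 0 0 0 (-1) (-1) 0 0 0 1 1 (-1) (-1) 1 0,
   en 0 0 0 (-1) 0 0 0 0 1 1 (-2) 1 0 0, en 0 0 0 0 (-1) (-1) (-1) 0 0 0 1 (-1) 0 (-1),
   en 0 0 0 0 (-1) (-1) 0 0 0 0 1 (-1) (-1) 1, en 0 0 0 0 (-1) 0 0 0 0 0 1 (-2) 1 0,
   en 0 0 0 0 0 (-1) (-1) 0 0 0 0 1 (-1) (-1), en 0 0 0 0 0 (-1) 0 0 0 0 0 1 (-2) 1,
   en 0 0 0 0 0 0 (-1) 0 0 0 0 0 1 (-2), en 0 0 0 0 0 0 1 0 0 0 0 0 (-1) 2,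
   en 0 0 0 0 0 1 0 0 0 0 0 (-1) 2 (-1), en 0 0 0 0 0 1 1 0 0 0 0 (-1) 1 1,
   en 0 0 0 0 1 0 0 0 0 0 (-1) 2 (-1) 0, en 0 0 0 0 1 1 0 0 0 0 (-1) 1 1 (-1),
   en 0 0 0 0 1 1 1 0 0 0 (-1) 1 0 1, en 0 0 0 1 0 0 0 0 (-1) (-1) 2 (-1) 0 0,
   en 0 0 0 1 1 0 0 0 (-1) (-1) 1 1 (-1) 0, en 0 0 0 1 1 1 0 0 (-1) (-1) 1 0 1 (-1),
   en 0 0 0 1 1 1 1 0 (-1) (-1) 1 0 0 1, en 0 0 1 0 0 0 0 (-1) 0 2 (-1) 0 0 0,
   en 0 0 1 1 0 0 0 (-1) (-1) 1 1 (-1) 0 0, en 0 0 1 1 1 0 0 (-1) (-1) 1 0 1 (-1) 0,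
   en 0 0 1 1 1 1 0 (-1) (-1) 1 0 0 1 (-1), en 0 0 1 1 1 1 1 (-1) (-1) 1 0 0 0 1,
   en 0 1 0 0 0 0 0 0 2 0 (-1) 0 0 0, en 0 1 0 1 0 0 0 0 1 (-1) 1 (-1) 0 0,
   en 0 1 0 1 1 0 0 0 1 (-1) 0 1 (-1) 0, en 0 1 0 1 1 1 0 0 1 (-1) 0 0 1 (-1),
   en 0 1 0 1 1 1 1 0 1 (-1) 0 0 0 1, en 0 1 1 1 0 0 0 (-1) 1 1 0 (-1) 0 0,
   en 0 1 1 1 1 0 0 (-1) 1 1 (-1) 1 (-1) 0, en 0 1 1 1 1 1 0 (-1) 1 1 (-1) 0 1 (-1),
   en 0 1 1 1 1 1 1 (-1) 1 1 (-1) 0 0 1, en 0 1 1 2 1 0 0 (-1) 0 0 1 0 (-1) 0,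
   en 0 1 1 2 1 1 0 (-1) 0 0 1 (-1) 1 (-1), en 0 1 1 2 1 1 1 (-1) 0 0 1 (-1) 0 1,
   en 0 1 1 2 2 1 0 (-1) 0 0 0 1 0 (-1), en 0 1 1 2 2 1 1 (-1) 0 0 0 1 (-1) 1,
   en 0 1 1 2 2 2 1 (-1) 0 0 0 0 1 0, en 1 0 0 0 0 0 0 2 0 (-1) 0 0 0 0,
   en 1 0 1 0 0 0 0 1 0 1 (-1) 0 0 0, en 1 0 1 1 0 0 0 1 (-1) 0 1 (-1) 0 0,
   en 1 0 1 1 1 0 0 1 (-1) 0 0 1 (-1) 0, en 1 0 1 1 1 1 0 1 (-1) 0 0 0 1 (-1),
   en 1 0 1 1 1 1 1 1 (-1) 0 0 0 0 1, en 1 1 1 1 0 0 0 1 1 0 0 (-1) 0 0,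
   en 1 1 1 1 1 0 0 1 1 0 (-1) 1 (-1) 0, en 1 1 1 1 1 1 0 1 1 0 (-1) 0 1 (-1),
   en 1 1 1 1 1 1 1 1 1 0 (-1) 0 0 1, en 1 1 1 2 1 0 0 1 0 (-1) 1 0 (-1) 0,
   en 1 1 1 2 1 1 0 1 0 (-1) 1 (-1) 1 (-1), en 1 1 1 2 1 1 1 1 0 (-1) 1 (-1) 0 1,
   en 1 1 1 2 2 1 0 1 0 (-1) 0 1 0 (-1), en 1 1 1 2 2 1 1 1 0 (-1) 0 1 (-1) 1,
   en 1 1 1 2 2 2 1 1 0 (-1) 0 0 1 0, en 1 1 2 2 1 0 0 0 0 1 0 0 (-1) 0,
   en 1 1 2 2 1 1 0 0 0 1 0 (-1) 1 (-1), en 1 1 2 2 1 1 1 0 0 1 0 (-1) 0 1,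
   en 1 1 2 2 2 1 0 0 0 1 (-1) 1 0 (-1), en 1 1 2 2 2 1 1 0 0 1 (-1) 1 (-1) 1,
   en 1 1 2 2 2 2 1 0 0 1 (-1) 0 1 0, en 1 1 2 3 2 1 0 0 (-1) 0 1 0 0 (-1),
   en 1 1 2 3 2 1 1 0 (-1) 0 1 0 (-1) 1, en 1 1 2 3 2 2 1 0 (-1) 0 1 (-1) 1 0,
   en 1 1 2 3 3 2 1 0 (-1) 0 0 1 0 0, en 1 2 2 3 2 1 0 0 1 0 0 0 0 (-1),
   en 1 2 2 3 2 1 1 0 1 0 0 0 (-1) 1, en 1 2 2 3 2 2 1 0 1 0 0 (-1) 1 0,
   en 1 2 2 3 3 2 1 0 1 0 (-1) 1 0 0, en 1 2 2 4 3 2 1 0 0 (-1) 1 0 0 0,
   en 1 2 3 4 3 2 1 (-1) 0 1 0 0 0 0, en 2 2 3 4 3 2 1 1 0 0 0 0 0 0]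

theorem dat_eq : ((List.range 126).map fun s =>
    ((List.range 7).map (rt chevE7 s), (List.range 7).map fun i => car chevE7 i s)) = dat := by (delta Cfsg.Agent.ChevalleyStructure.Columns.car; (try set_option simprocs false in simp -zeta only [Cfsg.Agent.ChevFast.E7.cartanR]); decide +kernel)

/-- signs -/
def sg (a x : ℤ) : ℤ := if x % 5 = a then 1 else if x % 5 = 5 - a then -1 else 0

/-- the signed sums of the roots -/
def sm (c : List ℤ) (a : ℤ) (i : ℕ) : ℤ :=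
  (dat.map fun x => sg a (List.zipWith (· * ·) x.1 c).sum * x.2.getD i 0).sum

/-- the greatest common divisor of the signed sums -/
def gc (c : List ℤ) : ℕ :=
  ((List.range 7).map fun i => Nat.gcd (sm c 1 i).natAbs (sm c 2 i).natAbs).foldr Nat.gcd 0

private def gcF (c : List ℤ) : Bool :=
  (List.range 7).any fun i => !decide (c.getD i 0 = 0) && decide (Nat.gcd (sm c 1 i).natAbs (sm c 2 i).natAbs ∣ 36)

private theorem foldr_dvd : ∀ {l : List ℕ} {x : ℕ}, x ∈ l → l.foldr Nat.gcd 0 ∣ x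
  | y :: l, x, h => by
    rcases List.mem_cons.1 h with rfl | h
    · exact Nat.gcd_dvd_left _ _
    · exact (Nat.gcd_dvd_right _ _).trans (foldr_dvd h)

private theorem gc_of {c : List ℤ} (h : gcF c = true) : decide (gc c ∣ 36) = true := by
  obtain ⟨i, hi, h⟩ := List.any_eq_true.1 h
  exact decide_eq_true ((foldr_dvd (List.mem_map.2 ⟨i, hi, rfl⟩)).trans (of_decide_eq_true (Bool.and_eq_true_iff.1 h).2))

private theorem chk_gcF : ((List.range 3).all fun a0 => (List.range 3).all fun a1 => (List.range 2).all fun a2 =>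
    (List.range 2).all fun a3 => (List.range 2).all fun a4 => (List.range 3).all fun a5 => (List.range 6).all fun a6 =>
    decide (5 < 2 * a0 + 2 * a1 + 3 * a2 + 4 * a3 + 3 * a4 + 2 * a5 + a6) ||
      (decide (a0 + a1 + a2 + a3 + a4 + a5 + a6 % 5 = 0) ||
      gcF [(a0 : ℕ), (a1 : ℕ), (a2 : ℕ), (a3 : ℕ), (a4 : ℕ), (a5 : ℕ), (a6 : ℕ)])) = true := by
  decide +kernel

theorem chk_gc' : ((List.range 3).all fun a0 => (List.range 3).all fun a1 => (List.range 2).all fun a2 =>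
    (List.range 2).all fun a3 => (List.range 2).all fun a4 => (List.range 3).all fun a5 => (List.range 6).all fun a6 =>
    decide (5 < 2 * a0 + 2 * a1 + 3 * a2 + 4 * a3 + 3 * a4 + 2 * a5 + a6) ||
      (decide (a0 + a1 + a2 + a3 + a4 + a5 + a6 % 5 = 0) ||
      decide (gc [(a0 : ℕ), (a1 : ℕ), (a2 : ℕ), (a3 : ℕ), (a4 : ℕ), (a5 : ℕ), (a6 : ℕ)] ∣ 36))) = true := by
  have h := chk_gcF
  simp only [List.all_eq_true] at h ⊢
  intro a0 h0 a1 h1 a2 h2 a3 h3 a4 h4 a5 h5 a6 h6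
  exact Bool.or_eq_true_iff.2 ((Bool.or_eq_true_iff.1 (h a0 h0 a1 h1 a2 h2 a3 h3 a4 h4 a5 h5 a6 h6)).imp id fun k =>
    Bool.or_eq_true_iff.2 ((Bool.or_eq_true_iff.1 k).imp id gc_of))

theorem chk_gc {a0 a1 a2 a3 a4 a5 a6 : ℕ} (h : 2 * a0 + 2 * a1 + 3 * a2 + 4 * a3 + 3 * a4 + 2 * a5 + a6 ≤ 5) :
    (a0 = 0 ∧ a1 = 0 ∧ a2 = 0 ∧ a3 = 0 ∧ a4 = 0 ∧ a5 = 0 ∧ a6 % 5 = 0) ∨
      gc [(a0 : ℕ), (a1 : ℕ), (a2 : ℕ), (a3 : ℕ), (a4 : ℕ), (a5 : ℕ), (a6 : ℕ)] ∣ 36 := by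
  have h0 := List.all_eq_true.1 chk_gc' a0 (List.mem_range.2 (by (clear * - h; solve | lia | omega)))
  have h1 := List.all_eq_true.1 h0 a1 (List.mem_range.2 (by (clear * - h; solve | lia | omega)))
  have h2 := List.all_eq_true.1 h1 a2 (List.mem_range.2 (by (clear * - h; solve | lia | omega)))
  have h3 := List.all_eq_true.1 h2 a3 (List.mem_range.2 (by omega))
  have h4 := List.all_eq_true.1 h3 a4 (List.mem_range.2 (by (clear * - h; solve | lia | omega)))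
  have h5 := List.all_eq_true.1 h4 a5 (List.mem_range.2 (by (clear * - h; solve | lia | omega)))
  have h6 := List.all_eq_true.1 h5 a6 (List.mem_range.2 (by (clear * - h; solve | lia | omega)))
  rw [Bool.or_eq_true, Bool.or_eq_true, decide_eq_true_eq, decide_eq_true_eq, decide_eq_true_eq] at h6
  rcases h6 with h6 | h6 | h6
  · omega
  · exact Or.inl (by (clear * - h6; solve | lia | omega))
  · exact Or.inr h6

theorem dvd_foldr {p : ℕ} : ∀ {l : List ℕ}, (∀ x ∈ l, p ∣ x) → p ∣ l.foldr Nat.gcd 0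
  | [], _ => dvd_zero p
  | x :: l, h => Nat.dvd_gcd (h x List.mem_cons_self) (dvd_foldr fun y hy => h y (List.mem_cons_of_mem _ hy))

theorem sum_range_list (f : ℕ → ℤ) (n : ℕ) : ((List.range n).map f).sum = ∑ s : Fin n, f s := by
  rw [Fin.sum_univ_eq_sum_range]
  induction n with
  | zero => rfl
  | succ n ih => rw [List.range_succ, List.map_append, List.sum_append, ih, Finset.sum_range_succ]; simp

theorem sm_eq (c : Fin 7 → ℕ) (a : ℤ) {i : ℕ} (hi : i < 7) :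
    sm [c 0, c 1, c 2, c 3, c 4, c 5, c 6] a i =
      ∑ s : Fin chevE7.nroots, sg a (∑ j, vec chevE7 7 s.val j * (c j : ℤ)) * car chevE7 i s.val := by
  rw [sm, ← dat_eq, List.map_map]
  refine (sum_range_list _ 126).trans (Finset.sum_congr rfl fun s _ => ?_)
  show sg a (List.zipWith (· * ·) ((List.range 7).map (rt chevE7 s)) _).sum *
    ((List.range 7).map fun i => car chevE7 i s).getD i 0 = _
  have e1 : (List.zipWith (· * ·) ((List.range 7).map (rt chevE7 s)) [(c 0 : ℤ), c 1, c 2, c 3, c 4, c 5, c 6]).sum =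
      ∑ j, vec chevE7 7 s.val j * (c j : ℤ) := by
    rw [Fin.sum_univ_seven]
    simp only [List.range_succ, List.range_zero, List.nil_append, List.cons_append, List.map_cons, List.map_nil,
      List.zipWith_cons_cons, List.zipWith_nil_left, List.sum_cons, List.sum_nil]
    show _ = rt chevE7 s 0 * _ + rt chevE7 s 1 * _ + rt chevE7 s 2 * _ + rt chevE7 s 3 * _ + rt chevE7 s 4 * _ +
      rt chevE7 s 5 * _ + rt chevE7 s 6 * _
    ring
  have e2 : ((List.range 7).map fun i => car chevE7 i s).getD i 0 = car chevE7 i s := by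
    rw [List.getD_eq_getElem _ _ (by simpa using hi)]
    simp
  rw [e1, e2]

theorem sum72 : ∑ s : Fin chevE7.nroots, car chevE7 0 s.val * car chevE7 0 s.val = 72 := by
  have h : (dat.map fun x => x.2.getD 0 0 * x.2.getD 0 0).sum = 72 := by decide +kernel
  rw [← dat_eq, List.map_map] at h
  exact ((sum_range_list _ 126).symm.trans h :)

theorem zpow_sub_inv {K : Type} [Field K] {ζ : K} (hζ : IsPrimitiveRoot ζ 5) (x : ℤ) :
    ζ ^ x - (ζ ^ x)⁻¹ = (sg 1 x : K) * (ζ - ζ ^ 4) + (sg 2 x : K) * (ζ ^ 2 - ζ ^ 3) ∧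
    (ζ ^ x) ^ 2 - ((ζ ^ x) ^ 2)⁻¹ = (sg 1 x : K) * (ζ ^ 2 - ζ ^ 3) - (sg 2 x : K) * (ζ - ζ ^ 4) := by
  have h5 : ζ ^ 5 = 1 := hζ.pow_eq_one
  have h1 : ζ ^ x = ζ ^ (x % 5) := DS.Nt.zpow_congr hζ (by norm_num) (by omega)
  have i0 : ∀ a b : ℕ, (a + b) % 5 = 0 → (ζ ^ a)⁻¹ = ζ ^ b := fun a b h => by
    refine inv_eq_of_mul_eq_one_right ?_
    rw [← pow_add, ← Nat.div_add_mod (a + b) 5, h, add_zero, pow_mul, h5, one_pow]
  have h2 : x % 5 = 0 ∨ x % 5 = 1 ∨ x % 5 = 2 ∨ x % 5 = 3 ∨ x % 5 = 4 := by omega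
  rw [h1, sg, sg]
  rcases h2 with h | h | h | h | h <;> rw [h]
  · norm_num
  · have e : ζ ^ (1 : ℤ) = ζ ^ 1 := zpow_natCast ζ 1
    rw [e, ← pow_mul, i0 1 4 rfl, i0 (1 * 2) 3 rfl]
    norm_num
  · have e : ζ ^ (2 : ℤ) = ζ ^ 2 := zpow_natCast ζ 2
    rw [e, ← pow_mul, i0 2 3 rfl, i0 (2 * 2) 1 rfl]
    norm_num
  · have e : ζ ^ (3 : ℤ) = ζ ^ 3 := zpow_natCast ζ 3
    rw [e, ← pow_mul, i0 3 2 rfl, i0 (3 * 2) 4 rfl]
    norm_num
    linear_combination ζ * h5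
  · have e : ζ ^ (4 : ℤ) = ζ ^ 4 := zpow_natCast ζ 4
    rw [e, ← pow_mul, i0 4 1 rfl, i0 (4 * 2) 2 rfl]
    norm_num only [_root_.pow_one, _root_.ite_true, _root_.ite_false, _root_.Int.cast_neg, _root_.neg_mul, _root_.one_mul, _root_.neg_sub, _root_.Int.cast_zero, _root_.MulZeroClass.zero_mul, _root_.add_zero, _root_.sub_zero, _root_.sub_left_inj, _root_.true_and]
    linear_combination ζ ^ 3 * h5

end Cfsg.Agent.Cam.Odd.NT

private theorem dce_72e6d7238561 : _root_.True := by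
  try have : _root_.True := by simp only [_root_.Cfsg.Agent.Cam.Odd.NT.sm.eq_1]
  try have : _root_.True := by simp only [_root_.Cfsg.Agent.Cam.Odd.NT.sg.eq_1]
  try have : _root_.True := by simp only [_root_.Cfsg.Agent.Cam.Odd.NT.hg.eq_1]
  exact _root_.True.intro
end

-- part: Cam/Main_mg
section
prune_inst 0x400000000000000012000000000000009000000000108000460002542000002060000018000000000000300000000000200000000000000400000000208880000021000000020087000080000000000000000000000000000000041000000000000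
set_option linter.all false
open scoped Cfsg.Agent.FastGrp

-- part: Cam/Final
section
/-!
# S3689, S3690: from the permutation group to the configuration (helper53)

`s3689_of big rows` and `s3690_of big rows e8` are the two statements (any universes).  The final files are
`Cfsg.Agent.Cam.Fin.s3689_of ⟨fun _ _ _ _ => S0000.result, fun _ _ _ _ => S5758.result⟩ rows N hNn ...`.
-/

set_option autoImplicit false

namespace Cfsg.Agent.Cam.Fin

open Subgroup Cfsg.Agent.Cam Cfsg.Agent.Cam.Rd MulAction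

/-- the configuration in a copy of `G` in `Type` -/
theorem exists_conf {G Ω : Type*} [Group G] [Finite G] [MulAction G Ω] [FaithfulSMul G Ω]
    (N : Subgroup G) (hNn : N.Normal) (hNs : IsSimpleGroup N) (hNa : ¬ IsMulCommutative N)
    (hNc : centralizer (N : Set G) = ⊥) (hprim : IsPreprimitive G Ω) (x y : Ω) (hxy : x ≠ y)
    (hnorm : ((stabilizer G x ⊓ stabilizer G y).subgroupOf (stabilizer G x)).Normal)
    (hne : stabilizer G x ⊓ stabilizer G y ≠ ⊥) :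
    ∃ (G' : Type) (_ : Group G') (_ : Finite G') (S H : Subgroup G') (g : G'),
      Conf S H g ∧ Nonempty (S ≃* N) ∧ Nonempty (H ≃* stabilizer G x) := by
  have : Nontrivial Ω := ⟨x, y, hxy⟩
  have htr : IsPretransitive G Ω := hprim.toIsPretransitive
  obtain ⟨g, hg⟩ := _root_.MulAction.exists_smul_eq G x y
  let e : G ≃* Shrink.{0} G := (Shrink.mulEquiv).symm
  have hfin : Finite (Shrink.{0} G) := Finite.of_equiv G e.toEquiv
  have hmem : ∀ (Y : Subgroup G) (a : G), e a ∈ Y.map e.toMonoidHom ↔ a ∈ Y := fun Y a => by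
    rw [mem_map_equiv]
    simp
  have hN0 : ∀ a : G, e a ∈ N0 ((stabilizer G x).map e.toMonoidHom) (e g) ↔ a ∈ stabilizer G x ⊓ stabilizer G y := by
    intro a
    rw [mem_N0, ← map_inv, ← map_mul, ← map_mul, hmem, hmem, mem_inf]
    refine and_congr_right fun _ => ?_
    rw [mem_stabilizer_iff, mem_stabilizer_iff, mul_smul, mul_smul, hg, inv_smul_eq_iff, hg]
  refine ⟨Shrink.{0} G, inferInstance, hfin, N.map e.toMonoidHom, (stabilizer G x).map e.toMonoidHom, e g,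
    { normal := hNn.map _ e.surjective
      simple := (MulEquiv.isSimpleGroup_congr (e.subgroupMap N)).1 hNs
      noncomm := noncomm_of_equiv (e.subgroupMap N) hNa
      cent := ?_
      coatom := (OrderIso.isCoatom_iff e.mapSubgroup _).2 (hprim.isCoatom_stabilizer_of_isPreprimitive G x)
      not_le := fun h => ?_
      not_mem := fun h => hxy (((hmem _ _).1 h).symm.trans hg)
      nrm := fun h hh n hn => ?_
      ne_bot := fun h => hne ?_ }, ⟨(e.subgroupMap N).symm⟩, ⟨(e.subgroupMap _).symm⟩⟩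
  · rw [eq_bot_iff]
    intro c hc
    obtain ⟨c, rfl⟩ := e.surjective c
    have : c ∈ centralizer (N : Set G) := mem_centralizer_iff.2 fun n hn => e.injective (by
      rw [map_mul, map_mul]
      exact mem_centralizer_iff.1 hc _ ((hmem _ _).2 hn))
    rw [hNc, mem_bot] at this
    rw [this, map_one]
    exact one_mem _
  · have h1 : N = ⊥ := by
      rw [eq_bot_iff]
      intro n hn
      rw [mem_bot]
      refine eq_of_smul_eq_smul fun z : Ω => ?_
      obtain ⟨a, rfl⟩ := _root_.MulAction.exists_smul_eq G x z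
      have h2 : a⁻¹ * n * a ∈ stabilizer G x := (hmem _ _).1 (h ((hmem _ _).2 (hNn.conj_mem' n hn a)))
      rw [mem_stabilizer_iff, mul_smul, mul_smul, inv_smul_eq_iff] at h2
      rw [h2, one_smul]
    exact (nontrivial_iff_ne_bot N).1 inferInstance h1
  · obtain ⟨h, rfl⟩ := e.surjective h
    obtain ⟨n, rfl⟩ := e.surjective n
    rw [← map_inv, ← map_mul, ← map_mul, hN0]
    rw [hN0] at hn
    rw [hmem] at hh
    exact mem_subgroupOf.1 (hnorm.conj_mem ⟨n, hn.1⟩ (mem_subgroupOf.2 hn) ⟨h, hh⟩)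
  · rw [eq_bot_iff]
    intro a ha
    rw [← hN0, h, mem_bot] at ha
    exact e.injective (ha.trans (map_one e).symm)

theorem isoE8_congr {A B : Type*} [Group A] [Group B] (e : A ≃* B) (h : Lie.IsoE8 A) : Lie.IsoE8 B := by
  obtain ⟨F, i1, i2, ⟨f⟩⟩ := h
  exact ⟨F, i1, i2, ⟨e.symm.trans f⟩⟩

/-- S3689 from the rows -/
theorem s3689_of (big : Big) (rows : Rows) {G Ω : Type*} [Group G] [Finite G] [MulAction G Ω] [FaithfulSMul G Ω]
    (N : Subgroup G) (hNn : N.Normal) (hNs : IsSimpleGroup N) (hNa : ¬ IsMulCommutative N)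
    (hNc : centralizer (N : Set G) = ⊥) (hE : ¬ Lie.IsoE8 N) (hprim : IsPreprimitive G Ω) (x y : Ω) (hxy : x ≠ y)
    (hnorm : ((stabilizer G x ⊓ stabilizer G y).subgroupOf (stabilizer G x)).Normal) :
    stabilizer G x ⊓ stabilizer G y = ⊥ := by
  by_contra hne
  obtain ⟨G', _, _, S, H, g, c, ⟨e⟩, -⟩ := exists_conf N hNn hNs hNa hNc hprim x y hxy hnorm hne
  exact hE (isoE8_congr e (isoE8_of_conf big red rows c))

/-- S3690 from the rows -/
theorem s3690_of (big : Big) (rows : Rows) (e8 : BoxE8) {G Ω : Type*} [Group G] [Finite G] [MulAction G Ω]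
    [FaithfulSMul G Ω] (N : Subgroup G) (hNn : N.Normal) (hNs : IsSimpleGroup N) (hNa : ¬ IsMulCommutative N)
    (hNc : centralizer (N : Set G) = ⊥) (hprim : IsPreprimitive G Ω) (x y : Ω) (hxy : x ≠ y)
    (hB : Lie.IsoE8 N → ¬ Nonempty (generalizedFittingSubgroup (stabilizer G x) ≃*
      alternatingGroup (Fin 5) × alternatingGroup (Fin 6)))
    (hnorm : ((stabilizer G x ⊓ stabilizer G y).subgroupOf (stabilizer G x)).Normal) :
    stabilizer G x ⊓ stabilizer G y = ⊥ := by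
  by_contra hne
  obtain ⟨G', _, _, S, H, g, c, ⟨e⟩, ⟨e'⟩⟩ := exists_conf N hNn hNs hNa hNc hprim x y hxy hnorm hne
  have h8 := isoE8_of_conf big red rows c
  obtain ⟨f⟩ := e8 big red G' S H g c h8
  refine hB (isoE8_congr e h8) ⟨MulEquiv.trans ?_ f⟩
  exact ((e'.subgroupMap _).trans (MulEquiv.subgroupCongr (Lib.GenFitting.map_genFitting e'))).symm

end Cfsg.Agent.Cam.Fin
end

-- part: Cam/F42/Main
section
/-!
# S3689, S3690: the box of the large Ree groups (helper90)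

For an element `x` of prime order `r ≥ 5` of `²F₄(q)` some conjugate of the perfect core of `C(x)` centralizes it
(`swap`); this excludes the local configuration.  The `r`-rank is at most two; this gives `Rank7`.
-/

set_option autoImplicit false

namespace Cfsg.Agent.Cam.F42

open Cfsg Cfsg.Lie Subgroup Cfsg.Agent.TwoFusion.PerfCore Cfsg.Agent.Cam.Spor

variable {L U : Type} [Group L] [Group U]

/-- a perfect subgroup of `C(R)` lies in `T` -/
theorem perfect_le_range [Finite U] (big : Big) (hs : IsSimpleGroup U) {τ : U →* L} {R X : Subgroup L} (p : Pair τ R)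
    (hX : ⁅X, X⁆ = X) (hC : X ≤ centralizer (R : Set L)) : X ≤ τ.range := by
  obtain ⟨a, -, ha⟩ := p.exists_act
  have hsol := big.sch U
  let f : X →* Cfsg.Out U := (QuotientGroup.mk' (Inn U)).comp (a.comp (inclusion hC))
  have h1 : (⊤ : Subgroup X) ≤ f.ker := le_ker_of_perfect (top_perfect hX) f inferInstance
  intro c hc
  have h2 : f ⟨c, hc⟩ = 1 := h1 (mem_top _)
  obtain ⟨v, hv⟩ : a ⟨c, hC hc⟩ ∈ Inn U := (QuotientGroup.eq_one_iff _).1 h2
  refine ⟨v, ?_⟩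
  have h3 : (τ v)⁻¹ * c = 1 := p.cfaith _ (mul_mem (inv_mem (p.tau_mem_cent v)) (hC hc)) fun u => by
    have h4 := ha ⟨c, hC hc⟩ u
    rw [← hv, MulAut.conj_apply, map_mul, map_mul, map_inv] at h4
    have h5 : τ v * τ u * (τ v)⁻¹ = c * τ u * c⁻¹ := h4
    calc (τ v)⁻¹ * c * τ u = (τ v)⁻¹ * (c * τ u * c⁻¹) * c := by group
      _ = τ u * ((τ v)⁻¹ * c) := by rw [← h5]; group
  exact inv_mul_eq_one.1 h3

theorem noCore_of_swap [Finite L] (big : Big) (h : ∀ (x : L) (r : ℕ), r.Prime → 5 ≤ r → x ^ r = 1 → x ≠ 1 →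
    ∃ n, ∀ P : Subgroup L, ⁅P, P⁆ = P → P ≤ centralizer {x} → ∀ a ∈ P, ∀ b ∈ P,
      n * a * n⁻¹ * b = b * (n * a * n⁻¹)) : NoCore L := by
  intro U _ _ τ α β R R' c
  obtain ⟨r, hr, h5, hd⟩ := exists_prime_five c.simple c.noncomm
  obtain ⟨u, hu, hu1⟩ := Core.exists_orderOf hr hd
  obtain ⟨n, hn⟩ := h (τ u) r hr h5 (by rw [← map_pow, ← hu, pow_orderOf_eq_one, map_one])
    fun h1 => hu1 (c.pair.inj (h1.trans (map_one τ).symm))
  have hP := hn _ (perf_perfect (centralizer ({τ u} : Set L))) (perf_le _)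
  let X := (perf (centralizer ({τ u} : Set L))).map (MulAut.conj n).toMonoidHom
  have hX : ⁅X, X⁆ = X := map_perfect (perf_perfect _) _
  have h1 : X ≤ centralizer (perf (centralizer ({τ u} : Set L)) : Set L) := by
    rintro _ ⟨a, ha, rfl⟩
    exact mem_centralizer_iff.2 fun b hb => (hP a ha b hb).symm
  have h2 : X ≤ τ.range :=
    perfect_le_range big c.simple c.pair hX (h1.trans (centralizer_le (c.pair.le_perf_cent u)))
  have h3 : X ≤ centralizer ({τ u} : Set L) := fun y hy => by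
    obtain ⟨v, rfl⟩ := h2 hy
    rw [mem_centralizer_singleton_iff, ← map_mul, ← map_mul, c.comm_of_cent_perf (h1 hy)]
  have h4 : X = ⊥ := eq_bot_of_perfect_comm hX fun a ha b hb =>
    (mem_centralizer_iff.1 (h1 ha) b (le_perf h3 hX hb)).symm
  exact c.pair.perf_ne_bot c.noncomm u ((map_eq_bot_iff_of_injective _ (MulAut.conj n).injective).1 h4)

theorem rank7_of_rank [Finite L] (h : ∀ r : ℕ, r.Prime → 5 ≤ r → ∀ A : Subgroup L, IsMulCommutative A →
    (∀ a ∈ A, a ^ r = 1) → Nat.card A ≤ r ^ 2) : Rank7 L := by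
  intro U _ _ hs hn f hf
  obtain ⟨r, hr, h5, hd⟩ := exists_prime_five hs hn
  obtain ⟨u, hu, -⟩ := Core.exists_orderOf hr hd
  let g : (Fin 8 → zpowers u) →* L := f.comp (MonoidHom.compLeft (zpowers u).subtype (Fin 8))
  have hg : Function.Injective g := hf.comp fun a b hab => funext fun i => Subtype.ext (congrFun hab i)
  have hc : Nat.card g.range = r ^ 8 := by
    rw [← Nat.card_congr (MonoidHom.ofInjective hg).toEquiv, Nat.card_fun, Nat.card_zpowers, hu]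
    simp
  have h1 := h r hr h5 g.range ⟨⟨by
    rintro ⟨_, a, rfl⟩ ⟨_, b, rfl⟩
    refine Subtype.ext ?_
    change g a * g b = g b * g a
    rw [← map_mul, ← map_mul]
    congr 1
    funext i
    exact (IsMulCommutative.is_comm (M := zpowers u)).comm (a i) (b i)⟩⟩ (by
    rintro _ ⟨a, rfl⟩
    rw [← map_pow, ← map_one g]
    congr 1
    funext i
    have h2 := pow_card_eq_one' (x := a i)
    rw [Nat.card_zpowers, hu] at h2
    exact h2)
  rw [hc] at h1
  exact absurd (Nat.pow_lt_pow_right hr.one_lt (by norm_num : 2 < 8)) (not_lt.2 h1)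

theorem rank7_of_equiv {L' : Type} [Group L'] (h : Rank7 L') (e : L ≃* L') : Rank7 L :=
  fun U _ _ _ hn f hf => h U hn (e.toMonoidHom.comp f) (e.injective.comp hf)

/-- **The box of the groups `²F₄(q)`.** -/
theorem box2F4 : Box2F4 := fun big red => row_of big red fun L _ _ _ h => by
  obtain ⟨K, _, _, m, -, hK, ⟨e⟩⟩ := h
  have : Finite ↥(twistedF4 K (2 ^ m)) := Finite.of_equiv _ e.toEquiv
  exact ⟨rank7_of_equiv (rank7_of_rank fun r hr h5 => H270.EPU.prankLE_five hK hr (by omega) (by omega)) e,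
    NoCore.of_equiv (noCore_of_swap big fun _ _ hr h5 hx h1 => swap hK hr h5 hx h1) e⟩

end Cfsg.Agent.Cam.F42
end

-- part: Cam/Spor/RowHN
section
/-!
# S3689, S3690: the row HN (helper67)
-/

set_option autoImplicit false

namespace Cfsg.Agent.Cam.Spor

open Cfsg Subgroup Cfsg.Agent.TwoFusion.PerfCore
open Cfsg.Agent.CpAutHNFive.QD

section QD
variable {G : Type} [Group G] {x g h z : G}

theorem qd_into [Finite G] (D : QDat g h) {Y : Subgroup G} (hg : g ∈ Y) (hh : h ∈ Y) (h32 : ¬ 32 ∣ Nat.card Y) {a b : G}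
    (ha : a ∈ Y) (hb : b ∈ Y) (ha2 : a * a = 1) (hb2 : b * b = 1) (hab : a * b = b * a) :
    ∃ k ∈ Y, k * a * k⁻¹ ∈ _root_.Subgroup.closure ({g, h} : Set G) ∧ k * b * k⁻¹ ∈ closure ({g, h} : Set G) := by
  have D' : QDat (⟨g, hg⟩ : Y) ⟨h, hh⟩ := ⟨by rw [← Subgroup.orderOf_coe]; exact D.hg,
    by rw [← Subgroup.orderOf_coe]; exact D.hh, Subtype.ext D.hgh⟩
  obtain ⟨P, hP⟩ := D'.exists_syl h32
  have hT : IsPGroup 2 (closure ({⟨a, ha⟩, ⟨b, hb⟩} : Set Y)) := isPGroup_closure (by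
    rintro y (rfl | rfl)
    · exact Subtype.ext ha2
    · exact Subtype.ext hb2) (by
    rintro y (rfl | rfl) y' (rfl | rfl)
    · rfl
    · exact Subtype.ext hab
    · exact Subtype.ext hab.symm
    · rfl)
  obtain ⟨k, hk⟩ := exists_conj_mem P hT
  rw [hP] at hk
  have hm : ∀ y : Y, y ∈ _root_.Subgroup.closure ({⟨g, hg⟩, ⟨h, hh⟩} : Set Y) → (y : G) ∈ _root_.Subgroup.closure ({g, h} : Set G) := fun y hy => by
    have := mem_map_of_mem Y.subtype hy
    rwa [MonoidHom.map_closure, Set.image_pair] at this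
  exact ⟨k, k.2, hm _ (hk ⟨a, ha⟩ (_root_.Subgroup.subset_closure (by simp))), hm _ (hk ⟨b, hb⟩ (_root_.Subgroup.subset_closure (by simp)))⟩

theorem qd_inv (D : QDat g h) {y : G} (hy : y ∈ _root_.Subgroup.closure ({g, h} : Set G)) (hy2 : orderOf y = 2) :
    y = g ^ 4 ∨ ∃ j : ℕ, g ^ j * h * (g ^ j)⁻¹ = y := by
  have h1 := sq_of_order hy2
  obtain ⟨i, hi8, rfl | rfl⟩ := D.mem_form' hy
  · refine Or.inl (D.pow_sq h1 fun h2 => ?_)
    rw [h2, orderOf_one] at hy2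
    omega
  · right
    have h2 : g ^ (i + 3 * i) = 1 := by
      rw [← h1, pow_add]
      calc g ^ i * g ^ (3 * i) = g ^ i * (g ^ (3 * i) * h) * h := by rw [mul_assoc, mul_assoc, D.hh2, mul_one]
        _ = _ := by rw [← D.comm]; group
    have h3 := orderOf_dvd_of_pow_eq_one h2
    rw [D.hg] at h3
    refine ⟨3 * (i / 2), ?_⟩
    rw [mul_inv_eq_iff_eq_mul, mul_assoc, D.comm, ← mul_assoc, ← pow_add,
      show i + 3 * (3 * (i / 2)) = 3 * (i / 2) + 8 * (i / 2) by omega, pow_add, pow_mul g 8, D.g8, one_pow, mul_one]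

theorem qd_order (D : QDat g h) : orderOf (g ^ 4) = 2 := by rw [orderOf_pow' _ (by norm_num), D.hg]; norm_num

/-- the situation of an element of the class 5A of `HN` -/
structure HD (x g h z : G) : Prop where
  gx : g * x = x * g
  hx : h * x = x * h
  D : QDat g h
  n32 : ¬ 32 ∣ Nat.card (centralizer ({x} : Set G))
  z2 : z * z = 1
  zx : z * x * z⁻¹ = x⁻¹
  mem : ∀ c, c * x = x * c → c * g ^ 4 = g ^ 4 * c → c ∈ Yz x z

theorem HD.conj (H : HD x g h z) (k : G) : HD (k * x * k⁻¹) (k * g * k⁻¹) (k * h * k⁻¹) (k * z * k⁻¹) := by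
  let θ := MulAut.conj k
  have hθ : ∀ y, k * y * k⁻¹ = θ y := fun y => rfl
  simp only [hθ]
  refine ⟨by rw [← map_mul, H.gx, map_mul], by rw [← map_mul, H.hx, map_mul], ⟨by rw [MulEquiv.orderOf_eq, H.D.hg],
    by rw [MulEquiv.orderOf_eq, H.D.hh], by rw [← map_inv, ← map_mul, ← map_mul, H.D.hgh, map_pow]⟩, ?_,
    by rw [← map_mul, H.z2, map_one], by rw [← map_inv, ← map_mul, ← map_mul, H.zx, map_inv], fun c h1 h2 => ?_⟩
  · rw [← hθ, ← Nat.card_congr (CpAutHNFive.TauFive.cequiv k x).toEquiv]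
    exact H.n32
  · obtain ⟨c, rfl⟩ := θ.surjective c
    rw [← map_pow, ← map_mul, ← map_mul] at h2
    rw [← map_mul, ← map_mul] at h1
    obtain ⟨-, i, hi⟩ := H.mem c (θ.injective h1) (θ.injective h2)
    refine ⟨by rw [← map_mul, ← map_mul, h1], i, ?_⟩
    change θ x ^ i = _
    rw [← map_zpow, show x ^ i = _ from hi, map_mul, map_mul, map_mul, map_inv, map_inv]

theorem HD.pow (H : HD x g h z) (hx : orderOf x = 5) {m : ℕ} (h1 : 1 ≤ m) (h5 : m < 5) : HD (x ^ m) g h z := by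
  have hC := CpAutHNFive.TauFive.centralizer_pow hx h1 h5
  have hz : x ∈ zpowers (x ^ m) := by
    rw [mem_zpowers_pow_iff, hx]
    interval_cases m <;> norm_num
  refine ⟨((show Commute g x from H.gx).pow_right m).eq, ((show Commute h x from H.hx).pow_right m).eq, H.D,
    by rw [hC]; exact H.n32, H.z2, by rw [← conj_pow, H.zx, inv_pow], fun c h2 h3 => ⟨h2, ?_⟩⟩
  refine (zpowers_le.2 hz) (H.mem c ?_ h3).2
  rw [← mem_centralizer_singleton_iff, ← hC, mem_centralizer_singleton_iff]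
  exact h2

/-- an involution inverting `x` and centralizing an `A₄` of `C(x)` -/
theorem HD.mem_of [Finite G] (H : HD x g h z) (hx : orderOf x = 5) {s ρ : G} (hs : s * s = 1) (hsx : s * x * s⁻¹ = x⁻¹)
    (hsg : g ^ 4 * s = s * g ^ 4) (hsh : h * s = s * h) (hρx : ρ * x = x * ρ) (hρs : ρ * s = s * ρ)
    (h1 : ρ * g ^ 4 * ρ⁻¹ = h) (h2 : ρ * h * ρ⁻¹ = g ^ 4 * h) {c : G} (hc : c * x = x * c) (hcg : c * g ^ 4 = g ^ 4 * c) :
    c ∈ Yz x s := by
  have h5 : x ^ 5 = 1 := by rw [← hx]; exact pow_orderOf_eq_one x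
  have hs' : s⁻¹ = s := inv_eq_of_mul_eq_one_left hs
  have hz' : z⁻¹ = z := inv_eq_of_mul_eq_one_left H.z2
  have hgx : Commute (g ^ 4) x := (show Commute g x from H.gx).pow_left 4
  have hhg : h * g ^ 4 = g ^ 4 * h := by rw [H.D.comm, show 3 * 4 = 4 + 8 by rfl, pow_add, H.D.g8, mul_one]
  have hzg : g ^ 4 * z = z * g ^ 4 := comm_of_mem_Yz h5 (by decide) (H.mem _ hgx.eq rfl) H.D.z_sq
  have hzh : h * z = z * h := comm_of_mem_Yz h5 (by decide) (H.mem _ H.hx hhg) H.D.hh2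
  have c0x : Commute (s * z) x := by
    change s * z * x = x * (s * z)
    calc s * z * x = s * (z * x * z⁻¹) * z := by group
      _ = (s * x * s⁻¹)⁻¹ * (s * z) := by rw [H.zx]; group
      _ = _ := by rw [hsx, inv_inv]
  have c0g : Commute (g ^ 4) (s * z) := (show Commute _ s from hsg).mul_right hzg
  have c0h : Commute h (s * z) := (show Commute _ s from hsh).mul_right hzh
  obtain ⟨i, hi⟩ := (H.mem _ c0x.eq c0g.symm.eq).2
  have hi' : (s * z) ^ 2 = x ^ i := by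
    change x ^ i = _ at hi
    rw [hi, mul_inv_rev, hs', hz', pow_two]
    calc s * z * (s * z) = s * z * (z * z) * s * z := by rw [H.z2]; group
      _ = _ := by group
  have h10 : (s * z) ^ 5 * (s * z) ^ 5 = 1 := by
    rw [← pow_add, show 5 + 5 = 2 * 5 by rfl, pow_mul, hi', ← zpow_natCast, ← zpow_mul, mul_comm, zpow_mul,
      zpow_natCast, h5, one_zpow]
  -- the elements of `C(x) ∩ C(g ^ 4)` commute with `s * (s * z) ^ 5` modulo `⟨x⟩`
  have key : ∀ c, c * x = x * c → c * g ^ 4 = g ^ 4 * c → c ∈ Yz x (s * (s * z) ^ 5) := fun c hc hcg => by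
    have h3 : s * (s * z) ^ 5 = z * ((s * z) ^ 2) ^ 2 := by
      rw [← pow_mul, show 5 = 4 + 1 by rfl, pow_succ', ← mul_assoc, ← mul_assoc, hs, one_mul]
    rw [h3, hi']
    exact mem_Yz_mul (H.mem c hc hcg) (((show Commute c x from hc).zpow_right i).pow_right 2).eq
  have back : ∀ c d, c ∈ Yz x (s * d) → c * d = d * c → c ∈ Yz x s := fun c d h3 h4 => by
    have := mem_Yz_mul h3 (show Commute c d from h4).inv_right.eq
    rwa [mul_inv_cancel_right] at this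
  have hV : (s * z) ^ 5 = 1 ∨ (s * z) ^ 5 = g ^ 4 ∨ (s * z) ^ 5 = h ∨ (s * z) ^ 5 = g ^ 4 * h := by
    by_cases h0 : (s * z) ^ 5 = 1
    · exact Or.inl h0
    right
    let g' : centralizer ({x} : Set G) := ⟨g, mem_centralizer_singleton_iff.2 H.gx⟩
    let h' : centralizer ({x} : Set G) := ⟨h, mem_centralizer_singleton_iff.2 H.hx⟩
    have D' : QDat g' h' := ⟨by rw [← Subgroup.orderOf_coe]; exact H.D.hg,
      by rw [← Subgroup.orderOf_coe]; exact H.D.hh, Subtype.ext H.D.hgh⟩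
    have h3 := rank_two D' H.n32 (a := g' ^ 4) (b := h')
      (y := ⟨(s * z) ^ 5, mem_centralizer_singleton_iff.2 (c0x.pow_left 5).eq⟩) (qd_order D') D'.hh
      (by rw [← Subgroup.orderOf_coe]; exact orderOf_eq_prime (by rw [pow_two]; exact h10) h0)
      (Subtype.ext hhg.symm) (Subtype.ext (c0g.pow_right 5).eq) (Subtype.ext (c0h.pow_right 5).eq)
      (fun h3 => D'.not_comm (by rw [← h3]; exact ((Commute.refl g').pow_left 4).eq))
    exact h3.imp (congrArg Subtype.val) (Or.imp (congrArg Subtype.val) (congrArg Subtype.val))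
  have hbad : (∀ c, c * x = x * c → c * g ^ 4 = g ^ 4 * c → c ∈ Yz x (s * h)) → False := fun hY => by
    have q1 : g ^ 2 * g ^ 4 * (g ^ 2)⁻¹ = g ^ 4 := by group
    have q2 : g ^ 2 * h * (g ^ 2)⁻¹ = g ^ 4 * h := by
      rw [mul_inv_eq_iff_eq_mul, mul_assoc, H.D.comm, ← mul_assoc, ← pow_add, show 4 + 3 * 2 = 2 + 8 by rfl, pow_add,
        H.D.g8, mul_one]
    have hqx : Commute (g ^ 2) x := (show Commute g x from H.gx).pow_left 2
    have hq := hY _ hqx.eq (by group)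
    have e1 := H.D.z_sq
    have e2 := H.D.hh2
    generalize g ^ 2 = q at q1 q2 hqx hq
    have ht := qd_order H.D
    have hth : g ^ 4 * h ≠ 1 := fun h3 => H.D.not_comm (by
      rw [eq_inv_of_mul_eq_one_right h3]; exact ((Commute.refl g).pow_left 4).inv_left.eq)
    generalize g ^ 4 = t at *
    have q1' : q⁻¹ * t * q = t := by rw [← q1]; nth_rewrite 2 [q1]; group
    have q2' : q⁻¹ * h * q = t * h := by
      have h3 : h = t * (q * h * q⁻¹) := by rw [q2, ← mul_assoc, e1, one_mul]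
      calc q⁻¹ * h * q = q⁻¹ * (t * (q * h * q⁻¹)) * q := by rw [← h3]
        _ = (q⁻¹ * t * q) * h := by group
        _ = _ := by rw [q1']
    have h3 : ρ * (t * h) * ρ⁻¹ = t := by
      calc ρ * (t * h) * ρ⁻¹ = (ρ * t * ρ⁻¹) * (ρ * h * ρ⁻¹) := by group
        _ = t * (h * h) := by rw [h1, h2, ← mul_assoc, hhg, mul_assoc]
        _ = t := by rw [e2, mul_one]
    have c1 : q * ρ * q⁻¹ * ρ * t = t * (q * ρ * q⁻¹ * ρ) := by
      calc q * ρ * q⁻¹ * ρ * t = q * (ρ * (q⁻¹ * (ρ * t * ρ⁻¹) * q) * ρ⁻¹) * q⁻¹ * (q * ρ * q⁻¹ * ρ) := by group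
        _ = _ := by rw [h1, q2', h3, q1]
    have c2 : q * ρ * q⁻¹ * ρ * h = h * (q * ρ * q⁻¹ * ρ) := by
      calc q * ρ * q⁻¹ * ρ * h = q * (ρ * (q⁻¹ * (ρ * h * ρ⁻¹) * q) * ρ⁻¹) * q⁻¹ * (q * ρ * q⁻¹ * ρ) := by group
        _ = q * (ρ * ((q⁻¹ * t * q) * (q⁻¹ * h * q)) * ρ⁻¹) * q⁻¹ * (q * ρ * q⁻¹ * ρ) := by rw [h2]; group
        _ = q * (ρ * h * ρ⁻¹) * q⁻¹ * (q * ρ * q⁻¹ * ρ) := by rw [q1', q2', ← mul_assoc t, e1, one_mul]
        _ = (q * t * q⁻¹) * (q * h * q⁻¹) * (q * ρ * q⁻¹ * ρ) := by rw [h2]; group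
        _ = _ := by rw [q1, q2, ← mul_assoc t, e1, one_mul]
    have hρx' : Commute ρ x := hρx
    have m1 := back _ _ (hY _ (((hqx.mul_left hρx').mul_left hqx.inv_left).mul_left hρx').eq c1) c2
    have m2 : ρ ∈ Yz x s := mem_Yz_of_comm hρx hρs
    have m3 := mul_mem m1 (inv_mem m2)
    rw [mul_inv_cancel_right] at m3
    -- conjugation by `q⁻¹`
    obtain ⟨j, hj⟩ := (inv_mem hq).2
    obtain ⟨l, hl⟩ := m3.2
    change x ^ j = _ at hj
    change x ^ l = _ at hl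
    have e3 : q⁻¹ * s * q = x ^ j * (s * t) := by
      have h' : h⁻¹ = h := inv_eq_of_mul_eq_one_left e2
      have t' : t⁻¹ = t := inv_eq_of_mul_eq_one_left e1
      calc q⁻¹ * s * q = q⁻¹ * (s * h) * q * (q⁻¹ * h * q)⁻¹ := by group
        _ = x ^ j * (s * h) * (t * h)⁻¹ := by rw [q2', hj]; group
        _ = x ^ j * (s * (h * h⁻¹) * t⁻¹) := by group
        _ = _ := by rw [mul_inv_cancel, mul_one, t']
    have e4 : ρ * (q⁻¹ * s * q) * ρ⁻¹ = x ^ l * (q⁻¹ * s * q) := by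
      calc ρ * (q⁻¹ * s * q) * ρ⁻¹ = q⁻¹ * (x ^ l * q) * (q⁻¹ * s * q) := by rw [hl]; group
        _ = _ := by rw [← (hqx.zpow_right l).eq, inv_mul_cancel_left]
    rw [e3] at e4
    have e5 : ρ * (x ^ j * (s * t)) * ρ⁻¹ = x ^ j * (s * h) := by
      calc ρ * (x ^ j * (s * t)) * ρ⁻¹ = (ρ * x ^ j) * (ρ⁻¹ * (ρ * s) * ρ⁻¹) * (ρ * t * ρ⁻¹) := by group
        _ = _ := by rw [(hρx'.zpow_right j).eq, h1, hρs]; group
    have e6 : x ^ l = t * h := by
      have h4 : x ^ j * (s * h) = x ^ j * (x ^ l * (s * t)) := by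
        rw [← e5, e4, ← mul_assoc, ← mul_assoc, (Commute.zpow_zpow_self x l j).eq]; group
      have t' : t⁻¹ = t := inv_eq_of_mul_eq_one_left e1
      calc x ^ l = x ^ l * (s * t) * t⁻¹ * s⁻¹ := by group
        _ = s * (h * t) * s⁻¹ := by rw [← mul_left_cancel h4, t']; group
        _ = _ := by rw [← mul_assoc, ← hsh, mul_assoc h, ← hsg, ← hhg]; group
    apply hth
    rw [← pow_one (t * h), ← show Nat.gcd 2 5 = 1 by rfl, pow_gcd_eq_one]
    refine ⟨?_, by rw [← e6, ← zpow_natCast, ← zpow_mul, mul_comm, zpow_mul, zpow_natCast, h5, one_zpow]⟩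
    rw [pow_two, mul_assoc, ← mul_assoc h, hhg, mul_assoc, e2, mul_one, e1]
  rcases hV with h3 | h3 | h3 | h3 <;> rw [h3] at key
  · exact back _ _ (key c hc hcg) (by rw [one_mul, mul_one])
  · exact back _ _ (key c hc hcg) hcg
  · exact (hbad key).elim
  · refine (hbad fun c hc hcg => ?_).elim
    have := mem_Yz_mul (key c hc hcg) hcg
    rwa [mul_assoc, mul_assoc, hhg, ← mul_assoc (g ^ 4), H.D.z_sq, one_mul] at this

/-- the configuration is impossible -/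
theorem HD.false_of_core [Finite G] {U : Type} [Group U] {τ α β : U →* G} {R R' : Subgroup G} (c : Core τ α β R R')
    {u v a b r : U} (d : A5Dat u v a b r) (H : HD (τ u) g h z) : False := by
  obtain ⟨φ, hφ, hm⟩ := c.pair.copy
  have dφ := d.map hφ
  have hx : orderOf (τ u) = 5 := (c.pair.orderOf_eq u).trans d.hu
  have hC : ∀ w, φ w ∈ centralizer ({τ u} : Set G) := fun w => c.pair.le_cent u (hm w)
  have hg := mem_centralizer_singleton_iff.2 H.gx
  have hh := mem_centralizer_singleton_iff.2 H.hx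
  have ha2 := sq_of_order dφ.ha
  have hb2 := sq_of_order dφ.hb
  have h1 : ∃ k ∈ centralizer ({τ u} : Set G), k * φ a * k⁻¹ = g ^ 4 ∧ k * φ b * k⁻¹ ∈ _root_.Subgroup.closure ({g, h} : Set G) := by
    obtain ⟨k, hk, m1, m2⟩ := qd_into H.D hg hh H.n32 (hC a) (hC b) ha2 hb2 dφ.hab
    have m3 := mul_mem m1 m2
    have e : ∀ y y' : G, k * y * k⁻¹ * (k * y' * k⁻¹) = k * (y * y') * k⁻¹ := fun y y' => by group
    have e' : ∀ y : G, k * φ r * y * (k * φ r)⁻¹ = k * (φ r * y * (φ r)⁻¹) * k⁻¹ := fun y => by group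
    have e'' : ∀ y : G, k * φ r * φ r * y * (k * φ r * φ r)⁻¹ = k * (φ r * (φ r * y * (φ r)⁻¹) * (φ r)⁻¹) * k⁻¹ :=
      fun y => by group
    rcases H.D.four_mem m1 m2 (by rw [order_conj, dφ.ha]) (by rw [order_conj, dφ.hb]) (by rw [e, e, dφ.hab])
      (fun h => dφ.hne (mul_left_cancel (mul_right_cancel h))) with h2 | h2 | h2
    · exact ⟨k, hk, h2.symm, m2⟩
    · exact ⟨k * φ r, mul_mem hk (hC r), by rw [e', dφ.ra, h2], by rw [e', dφ.rb, ← e]; exact m3⟩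
    · refine ⟨k * φ r * φ r, mul_mem (mul_mem hk (hC r)) (hC r), by rw [e'', dφ.ra, dφ.rb, h2, e], ?_⟩
      have h3 : φ r * (φ a * φ b) * (φ r)⁻¹ = φ a := by
        calc φ r * (φ a * φ b) * (φ r)⁻¹ = (φ r * φ a * (φ r)⁻¹) * (φ r * φ b * (φ r)⁻¹) := by group
          _ = φ a * (φ b * φ b) := by rw [dφ.ra, dφ.rb, ← mul_assoc, ← dφ.hab, mul_assoc]
          _ = _ := by rw [hb2, mul_one]
      rwa [e'', dφ.rb, h3]
  have h2 : ∃ k ∈ centralizer ({τ u} : Set G), k * g ^ 4 * k⁻¹ = φ a ∧ k * h * k⁻¹ = φ b := by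
    obtain ⟨k, hk, m1, m2⟩ := h1
    rcases qd_inv H.D m2 (by rw [order_conj, dφ.hb]) with h2 | ⟨j, h2⟩
    · exact (dφ.hne (mul_left_cancel (mul_right_cancel (m1.trans h2.symm)))).elim
    · refine ⟨k⁻¹ * g ^ j, mul_mem (inv_mem hk) (pow_mem hg j), ?_, ?_⟩
      · calc k⁻¹ * g ^ j * g ^ 4 * (k⁻¹ * g ^ j)⁻¹ = k⁻¹ * g ^ 4 * k := by group
          _ = _ := by rw [← m1]; group
      · calc k⁻¹ * g ^ j * h * (k⁻¹ * g ^ j)⁻¹ = k⁻¹ * (g ^ j * h * (g ^ j)⁻¹) * k := by group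
          _ = _ := by rw [h2]; group
  obtain ⟨k, hk, e1, e2⟩ := h2
  have H' := H.conj k
  rw [mem_centralizer_singleton_iff.1 hk, mul_inv_cancel_right, e2] at H'
  rw [← conj_pow] at e1
  generalize k * g * k⁻¹ = g' at H' e1
  have hs : τ v * τ v = 1 := by rw [← map_mul, d.hv, map_one]
  have hsx : τ v * τ u * (τ v)⁻¹ = (τ u)⁻¹ := by rw [← map_inv, ← map_inv, ← map_mul, ← map_mul, d.hvu]
  have hφs : ∀ w, φ w * τ v = τ v * φ w := fun w => (c.pair.comm v _ (hm w)).symm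
  have hφx : ∀ w, φ w * τ u = τ u * φ w := fun w => (c.pair.comm u _ (hm w)).symm
  have hY : ∀ w, φ w ∈ Yz (τ u) (τ v) := fun w => mem_Yz_of_comm (hφx w) (hφs w)
  have key : ∀ y, y * τ u = τ u * y → y * φ a = φ a * y → y ∈ Yz (τ u) (τ v) := fun y h3 h4 =>
    H'.mem_of hx hs hsx (by rw [e1, hφs]) (hφs b) (hφx r) (hφs r) (by rw [e1, dφ.ra]) (by rw [e1, dφ.rb]) h3
      (by rw [e1, h4])
  have hgY : g' ∈ Yz (τ u) (τ v) := key _ H'.gx (by rw [← e1]; group)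
  have hle : centralizer ({τ u} : Set G) ≤ Yz (τ u) (τ v) := by
    refine le_of_gen (t := φ a) (Yz_le _ _) (fun hs => not_solvable c.simple c.noncomm
      (Group.isSolvable_of_isSolvable_injective (f := φ.codRestrict _ hY) fun a b h => hφ (congrArg Subtype.val h)))
      (hC a) (hC b) dφ.ha dφ.hb dφ.hab dφ.hne (fun y hy hy2 => ?_)
      fun y hy h3 => key y (mem_centralizer_singleton_iff.1 hy) h3
    obtain ⟨l, hl, m, -⟩ := qd_into H'.D hgY (hY b) (fun h3 => H.n32 (h3.trans (card_dvd_of_le (Yz_le _ _)))) hy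
      (one_mem _) (sq_of_order hy2) (one_mul 1) (by rw [one_mul, mul_one])
    rcases qd_inv H'.D m (by rw [order_conj, hy2]) with h3 | ⟨j, h3⟩
    · exact ⟨l⁻¹, inv_mem hl, by rw [← e1, ← h3]; group⟩
    · refine ⟨l⁻¹ * g' ^ j * φ r, mul_mem (mul_mem (inv_mem hl) (pow_mem hgY j)) (hY r), ?_⟩
      calc l⁻¹ * g' ^ j * φ r * φ a * (l⁻¹ * g' ^ j * φ r)⁻¹
          = l⁻¹ * (g' ^ j * (φ r * φ a * (φ r)⁻¹) * (g' ^ j)⁻¹) * l := by group
        _ = _ := by rw [dφ.ra, h3]; group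
  obtain ⟨i, hi⟩ := (hle (c.alpha_mem_cent (rfl : u * u = u * u))).2
  refine c.alpha_not_mem (u := u * u) (fun h3 => ?_) (mem_sup_left ⟨u ^ i, rfl⟩) ?_
  · have h4 := orderOf_dvd_of_pow_eq_one (show u ^ 2 = 1 by rw [pow_two, h3])
    rw [d.hu] at h4
    norm_num at h4
  · have h3 := c.conj_alpha u⁻¹ v
    have h4 : v * u⁻¹ * v⁻¹ = u := by
      calc v * u⁻¹ * v⁻¹ = (v * u * v⁻¹)⁻¹ := by group
        _ = u := by rw [d.hvu, inv_inv]
    rw [h4, map_inv] at h3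
    rw [map_zpow, show τ u ^ i = _ from hi, map_mul]
    nth_rewrite 2 [← h3]
    group

end QD

section HN

open Cfsg.Agent.HN.Pres Cfsg.Agent.HN.H0Basic
open Cfsg.Agent.HN.P1408 hiding ψ
open Cfsg.Agent.HN.XWords (W0)
open Cfsg.Agent.HN.NormalH (ψ)
open Cfsg.Agent.KFacts.HN
open Cfsg.Agent.CpAutHNFive Cfsg.Agent.CpAutHNFive.TFive Cfsg.Agent.CpAutHNFive.HTab
open Cfsg.Agent.CpAutHNFive.HFacts Cfsg.Agent.CpAutHNFive.TauFive Cfsg.Agent.CpAutHNFive.Main

/-- an involution inverting `w2` -/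
def hnWz : List ℕ := [0, 4, 3, 4, 2, 1, 2, 4, 3, 4, 2, 4, 3, 1, 3, 4, 3]

theorem hn_Yz : centralizer ({hw w2} : Set H0) ≤ Yz (hw w2) (hw hnWz) := by
  have := finite_H0
  have m1 : hw wg ∈ Yz (hw w2) (hw hnWz) := mem_Yz_of_comm g_comm (_root_.Cfsg.Agent.CpAutHNFive.HFacts.comm_of (by decide +kernel))
  have m2 : hw wh ∈ Yz (hw w2) (hw hnWz) := mem_Yz_of_comm h_comm (_root_.Cfsg.Agent.CpAutHNFive.HFacts.comm_of (by decide +kernel))
  have m3 : hw wt ∈ Yz (hw w2) (hw hnWz) := mem_Yz_of_comm t_comm (_root_.Cfsg.Agent.CpAutHNFive.HFacts.comm_of (by decide +kernel))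
  have m4 : hw we ∈ Yz (hw w2) (hw hnWz) := ⟨e_comm, (4 : ℕ), by
    change hw w2 ^ ((4 : ℕ) : ℤ) = _
    rw [zpow_natCast, ← hw_iw, ← hw_iw, ← hw_append, ← hw_append, ← hw_append]
    exact pow_of (by decide +kernel)⟩
  have m5 : hw w2 ∈ Yz (hw w2) (hw hnWz) := ⟨rfl, (2 : ℕ), by
    change hw w2 ^ ((2 : ℕ) : ℤ) = _
    rw [zpow_natCast, ← hw_iw, ← hw_iw, ← hw_append, ← hw_append, ← hw_append]
    exact pow_of (by decide +kernel)⟩
  have h25 : 25 ∣ Nat.card (Yz (hw w2) (hw hnWz)) := by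
    have h1 := mul_order_dvd (C := Yz (hw w2) (hw hnWz)) (a := ⟨hw we, m4⟩) (b := ⟨hw w2, m5⟩)
      (Subtype.ext e_comm) (inf_eq_bot_of_prime Nat.prime_five (by rw [← Subgroup.orderOf_coe]; exact order_e) (by
        intro h
        apply e_not_mem
        obtain ⟨k, hk⟩ := mem_zpowers_iff.1 h
        exact mem_zpowers_iff.2 ⟨k, congrArg Subtype.val hk⟩))
    rw [← Subgroup.orderOf_coe, ← Subgroup.orderOf_coe] at h1
    change orderOf (hw we) * orderOf (hw w2) ∣ _ at h1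
    rwa [order_e, order_w2] at h1
  have h3 : 3 ∣ Nat.card (Yz (hw w2) (hw hnWz)) := order_t ▸ orderOf_dvd_natCard _ m3
  have h16 : 16 ∣ Nat.card (Yz (hw w2) (hw hnWz)) := by
    rw [← QDat.card ⟨order_g, order_h, hgh⟩]
    exact card_dvd_of_le ((closure_le _).2 (Set.pair_subset m1 m2))
  have h := Nat.le_of_dvd Nat.card_pos (Nat.Coprime.mul_dvd_of_dvd_of_dvd (by norm_num) h16
    (Nat.Coprime.mul_dvd_of_dvd_of_dvd (m := 3) (n := 25) (by norm_num) h3 h25))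
  exact (eq_of_le_of_card_ge (Yz_le _ _) (HCert.card_le_two.trans h)).ge

theorem hn_hd : HD (ψ (hw w2)) (ψ (hw wg)) (ψ (hw wh)) (ψ (hw hnWz)) := by
  refine ⟨by rw [← map_mul, ← map_mul, g_comm], by rw [← map_mul, ← map_mul, h_comm],
    ⟨by rw [orderOf_injective _ emb.inj, order_g], by rw [orderOf_injective _ emb.inj, order_h],
      by rw [← map_mul, ← map_inv, ← map_mul, hgh, map_pow]⟩, not32, ?_, ?_, fun c h1 h2 => ?_⟩
  · rw [← map_mul, ← pow_two, pow_one_of (by decide +kernel), map_one]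
  · rw [← map_mul, ← map_inv, ← map_mul, ← map_inv, ← hw_iw, ← hw_iw, ← hw_append, ← hw_append]
    exact congrArg ψ (hw_eq (by decide +kernel))
  · rw [← map_pow, g_four] at h2
    obtain ⟨y, rfl⟩ := emb.cent c h2
    obtain ⟨-, i, hi⟩ := hn_Yz (x := y) (mem_centralizer_singleton_iff.2 (emb.inj (by rw [map_mul, map_mul, h1])))
    refine ⟨h1, i, ?_⟩
    change ψ (hw w2) ^ i = _
    rw [← map_zpow, show hw w2 ^ i = _ from hi, map_mul, map_mul, map_mul, map_inv, map_inv]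

/-- `CpAutHNFive.TauFive.main_cases` with the conjugacy class -/
theorem hn_cases {x u : G} (hx : orderOf x = 5) (hu : orderOf u = 2) (hux : u * x = x * u) :
    Good (centralizer ({x} : Set G)) ∨ ∃ g h z, HD x g h z := by
  have FT : ∀ (K : Type) [Group K] [Finite K], Odd (Nat.card K) → Group.IsSolvable K := fun K _ _ h => S0205.result h
  have h204 : ∀ (K : Type) [Group K] [Finite K] [IsSimpleGroup K], ¬ IsCyclic K → ∃ E : Subgroup K, IsKleinFour E :=
    fun K _ _ _ h => S0204.result h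
  have key : ∀ v : G, IsConj (ψ τ) v → v * x = x * v → Good (centralizer ({x} : Set G)) ∨ ∃ g h z, HD x g h z := by
    intro v hv hvx
    obtain ⟨c, hc⟩ := isConj_iff.1 hv.symm
    have h1 : c * x * c⁻¹ * ψ τ = ψ τ * (c * x * c⁻¹) := by
      rw [← hc]
      calc c * x * c⁻¹ * (c * v * c⁻¹) = c * (x * v) * c⁻¹ := by group
        _ = c * (v * x) * c⁻¹ := by rw [hvx]
        _ = _ := by group
    obtain ⟨y, hy⟩ := emb.cent _ h1
    have hy5 : orderOf y = 5 := by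
      rw [← orderOf_injective ψ emb.inj, hy, ← hx]
      exact MulEquiv.orderOf_eq (MulAut.conj c) x
    obtain ⟨g, m, hm1, hm5, w, hw', hg⟩ := five_conj hy5
    have hw5 : orderOf (ψ (hw w)) = 5 := by
      rw [orderOf_injective _ emb.inj]
      rcases hw' with rfl | rfl | rfl
      · exact order_w1
      · exact order_w2
      · exact order_w3
    have h2 : (ψ g * c)⁻¹ * ψ (hw w) ^ m * ((ψ g * c)⁻¹)⁻¹ = x := by
      rw [← map_pow, ← hg, map_mul, map_mul, map_inv, hy]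
      group
    obtain ⟨e⟩ := cequiv_pow hw5 hm1 hm5 h2
    rcases hw' with rfl | rfl | rfl
    · exact Or.inl ((good_one FT h204).congr e)
    · exact Or.inr ⟨_, _, _, h2 ▸ (hn_hd.pow hw5 hm1 hm5).conj _⟩
    · exact Or.inl (Good.congr e (Or.inr (solvable_three FT)))
  rcases Classes.inv_class hu with h | h
  · exact key u h.symm hux
  · obtain ⟨c, hc⟩ := isConj_iff.1 h
    have h1 : c * x * c⁻¹ * W0 = W0 * (c * x * c⁻¹) := by
      rw [← hc]
      calc c * x * c⁻¹ * (c * u * c⁻¹) = c * (x * u) * c⁻¹ := by group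
        _ = c * (u * x) * c⁻¹ := by rw [hux]
        _ = _ := by group
    have h5 : orderOf (c * x * c⁻¹) = 5 := by
      rw [← hx]
      exact MulEquiv.orderOf_eq (MulAut.conj c) x
    rcases cases_PP FT h204 h5 h1 with h2 | ⟨⟨v, hv, hvx⟩, -⟩
    · exact Or.inl (h2.congr (cequiv c x).symm)
    · refine key (c⁻¹ * v * c) (hv.trans (isConj_iff.2 ⟨c⁻¹, by rw [inv_inv]⟩)) ?_
      calc c⁻¹ * v * c * x = c⁻¹ * (v * (c * x * c⁻¹)) * c := by group
        _ = c⁻¹ * (c * x * c⁻¹ * v) * c := by rw [hvx]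
        _ = _ := by group

theorem noCore_hn {L : Type} [Group L] [Finite L] (big : Big) (h : Spor.IsoHN L) : NoCore L := by
  obtain ⟨e⟩ := h
  refine NoCore.of_equiv (fun U _ _ τ α β R R' c => ?_) e
  obtain ⟨u, v, a, b, r, d⟩ := exists_a5Dat c.simple (cand_hn big ⟨MulEquiv.refl _⟩ c)
  obtain ⟨φ, hφ, hm⟩ := c.pair.copy
  have dφ := d.map hφ
  have hC : ∀ w, φ w ∈ centralizer ({τ u} : Set Spor.HN) := fun w => c.pair.le_cent u (hm w)
  rcases hn_cases ((c.pair.orderOf_eq u).trans d.hu) dφ.ha (mem_centralizer_singleton_iff.1 (hC a)) with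
    (⟨h1, -⟩ | h1) | ⟨g, h, z, H⟩
  · exact dφ.hne (congrArg Subtype.val (h1 ⟨_, hC a⟩ ⟨_, hC b⟩ (by rw [← Subgroup.orderOf_coe]; exact dφ.ha)
      (by rw [← Subgroup.orderOf_coe]; exact dφ.hb) (Subtype.ext dφ.hab)))
  · exact not_solvable c.simple c.noncomm
      (Group.isSolvable_of_isSolvable_injective (f := φ.codRestrict _ hC) fun a b h => hφ (congrArg Subtype.val h))
  · exact H.false_of_core c d

end HN

end Cfsg.Agent.Cam.Spor
end

-- part: Cam/Ex/CbPF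
section
/-!
# The finite check: double cosets and certificates (helper12, generated by `tools/cam12/gen_data.py`)
-/

set_option autoImplicit false
set_option linter.unusedVariables false
set_option linter.style.longLine false
set_option maxRecDepth 100000

namespace Cfsg.Agent.Cam.Ex.Cb

open Cfsg Cfsg.Lie

/-- double cosets -/
def LF4_1000 : List V := [
  [-2, 1, 0, 0], [-1, 0, 0, 0], [-1, 0, 0, 2], [-1, 1, 0, 0],
  [1, 0, 0, 0]]

theorem pF4_1000 : pchk 4 dF4 [1, 0, 0, 0] [1, 0, 0, 0] [1, 2, 3] LF4_1000 = true := by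
  decide +kernel

/-- certificates -/
def CF4_1000_0 : List (V × Bool × List V) := []

/-- survivors -/
def SF4_1000_0 : List V := [[-2, 1, 0, 0], [-1, 1, 0, 0]]

theorem kF4_1000_0 : kchk 4 dF4 0 85766121000000 [1, 0, 0, 0] [1, 0, 0, 0] [] CF4_1000_0 LF4_1000 SF4_1000_0 = true := by
  decide +kernel

theorem eF4_1000_0 : al (fun lam => an (endI 4 dF4 0 85766121000000 (pl [1, 0, 0, 0] lam) (mi [1, 0, 0, 0] lam)) (pats [0, 1] 4)) SF4_1000_0 = true := by
  decide +kernel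

/-- certificates -/
def CF4_1000_7 : List (V × Bool × List V) := []

/-- survivors -/
def SF4_1000_7 : List V := [[-2, 1, 0, 0], [-1, 1, 0, 0]]

theorem kF4_1000_7 : kchk 4 dF4 7 1 [1, 0, 0, 0] [1, 0, 0, 0] [] CF4_1000_7 LF4_1000 SF4_1000_7 = true := by
  decide +kernel

theorem eF4_1000_7 : al (fun lam => an (endI 4 dF4 7 1 (pl [1, 0, 0, 0] lam) (mi [1, 0, 0, 0] lam)) (pats [0, 1] 4)) SF4_1000_7 = true := by
  decide +kernel

/-- certificates -/
def CF4_1000_5 : List (V × Bool × List V) := []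

/-- survivors -/
def SF4_1000_5 : List V := [[-2, 1, 0, 0], [-1, 1, 0, 0]]

theorem kF4_1000_5 : kchk 4 dF4 5 1 [1, 0, 0, 0] [1, 0, 0, 0] [] CF4_1000_5 LF4_1000 SF4_1000_5 = true := by
  decide +kernel

theorem eF4_1000_5 : al (fun lam => an (endI 4 dF4 5 1 (pl [1, 0, 0, 0] lam) (mi [1, 0, 0, 0] lam)) (pats [0, 1] 4)) SF4_1000_5 = true := by
  decide +kernel

/-- double cosets -/
def LF4_0100 : List V := [
  [0, -3, 4, 0], [0, -1, 0, 0], [0, -1, 0, 4], [0, 1, 0, 0],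
  [1, -3, 2, 2], [1, -3, 4, 0], [1, -2, 0, 2], [1, -2, 0, 4],
  [1, -2, 2, 2], [1, -1, 2, 0], [2, -3, 2, 0], [2, -3, 2, 2],
  [2, -1, 0, 2], [3, -3, 2, 0], [3, -2, 0, 0], [3, -2, 0, 2],
  [3, -1, 0, 0]]

theorem pF4_0100 : pchk 4 dF4 [0, 1, 0, 0] [0, 1, 0, 0] [0, 2, 3] LF4_0100 = true := by
  decide +kernel

/-- certificates -/
def CF4_0100_0 : List (V × Bool × List V) := []

/-- survivors -/
def SF4_0100_0 : List V := []

theorem kF4_0100_0 : kchk 4 dF4 0 85766121000000 [0, 1, 0, 0] [0, 1, 0, 0] [[1, 0, 0, 0]] CF4_0100_0 LF4_0100 SF4_0100_0 = true := by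
  decide +kernel

/-- certificates -/
def CF4_0100_7 : List (V × Bool × List V) := []

/-- survivors -/
def SF4_0100_7 : List V := []

theorem kF4_0100_7 : kchk 4 dF4 7 1 [0, 1, 0, 0] [0, 1, 0, 0] [[1, 0, 0, 0]] CF4_0100_7 LF4_0100 SF4_0100_7 = true := by
  decide +kernel

/-- certificates -/
def CF4_0100_5 : List (V × Bool × List V) := []

/-- survivors -/
def SF4_0100_5 : List V := []

theorem kF4_0100_5 : kchk 4 dF4 5 1 [0, 1, 0, 0] [0, 1, 0, 0] [[1, 0, 0, 0]] CF4_0100_5 LF4_0100 SF4_0100_5 = true := by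
  decide +kernel

/-- double cosets -/
def LF4_0010 : List V := [
  [0, 0, -2, 3], [0, 0, -1, 0], [0, 0, -1, 3], [0, 0, 1, 0],
  [0, 1, -3, 2], [0, 1, -3, 3], [0, 1, -1, 1], [0, 2, -3, 0],
  [0, 2, -3, 1], [1, 0, -2, 1], [1, 0, -2, 3], [1, 0, -1, 2],
  [1, 1, -3, 1], [1, 1, -3, 2], [1, 1, -2, 1], [2, 0, -2, 1],
  [2, 0, -1, 0]]

theorem pF4_0010 : pchk 4 dF4 [0, 0, 1, 0] [0, 0, 1, 0] [0, 1, 3] LF4_0010 = true := by
  decide +kernel

/-- certificates -/
def CF4_0010_0 : List (V × Bool × List V) := []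

/-- survivors -/
def SF4_0010_0 : List V := []

theorem kF4_0010_0 : kchk 4 dF4 0 85766121000000 [0, 0, 1, 0] [0, 0, 1, 0] [[0, 0, 0, 1]] CF4_0010_0 LF4_0010 SF4_0010_0 = true := by
  decide +kernel

/-- certificates -/
def CF4_0010_7 : List (V × Bool × List V) := []

/-- survivors -/
def SF4_0010_7 : List V := []

theorem kF4_0010_7 : kchk 4 dF4 7 1 [0, 0, 1, 0] [0, 0, 1, 0] [[0, 0, 0, 1]] CF4_0010_7 LF4_0010 SF4_0010_7 = true := by
  decide +kernel

/-- certificates -/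
def CF4_0010_5 : List (V × Bool × List V) := []

/-- survivors -/
def SF4_0010_5 : List V := []

theorem kF4_0010_5 : kchk 4 dF4 5 1 [0, 0, 1, 0] [0, 0, 1, 0] [[0, 0, 0, 1]] CF4_0010_5 LF4_0010 SF4_0010_5 = true := by
  decide +kernel

end Cfsg.Agent.Cam.Ex.Cb
end

-- part: Cam/Ex/CbF4
section
/-!
# The finite check: `G₂`, `D₄`, `F₄` (helper12)
-/

set_option autoImplicit false
set_option linter.unusedVariables false
set_option maxRecDepth 100000

namespace Cfsg.Agent.Cam.Ex.Cb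

open CoxeterSystem Cfsg Cfsg.Lie
open Cfsg.Agent.ChevalleyStructure.CoxeterGeom Cfsg.Agent.ChevalleyStructure.CoxeterGeomTypes
open Cfsg.Agent.Tits.Roots Cfsg.Agent.Nodes.RGDChev Cfsg.Agent.Nodes.Coroot Cfsg.Agent.Nodes.SubComb
open Cfsg.Agent.H931.KC (hr psi psi_apply psi_sr eq_psi)

/-- no element satisfies `K1` in `G₂` -/
theorem noG2 {r : ℕ} (hr' : r.Prime) (h5 : 5 ≤ r) {p : ℕ} {φ : Lat 2 →+ ZMod r} (h0 : φ ≠ 0)
    (hK : K1 tG2 p (Psi tG2 φ)) : False := by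
  obtain ⟨w, t, ht, -⟩ := tabG2.types tyG2 hr' h5 h0 hK
  exact absurd ht List.not_mem_nil

theorem finG2 (p q r : ℕ) (g0 g : Lat 2 ≃+ Lat 2) (A B : Lat 2 →+ ZMod r) : ¬ Cmb tG2 p q r g0 g A B :=
  fun C => noG2 C.prime C.five C.x0 C.k1x

/-- the types of `F₄` -/
theorem typesF4 {r : ℕ} (hr' : r.Prime) (h5 : 5 ≤ r) {p : ℕ} {φ : Lat 4 →+ ZMod r} (h0 : φ ≠ 0)
    (hK : K1 tF4 p (Psi tF4 φ)) : ∃ w, (p ≠ 2 ∧ Exa tF4 (cw tF4 φ w) [1, 0, 0, 0]) ∨
      Exa tF4 (cw tF4 φ w) [0, 1, 0, 0] ∨ Exa tF4 (cw tF4 φ w) [0, 0, 1, 0] := by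
  obtain ⟨w, t, ht, h⟩ := tabF4.types tyF4 hr' h5 h0 hK
  have h1 := tyF4' t ht
  simp only [List.mem_cons, List.not_mem_nil, or_false] at h1
  refine ⟨w, ?_⟩
  rcases h1 with h1 | h1 | h1 <;> rw [h1] at h
  · refine Or.inl ⟨?_, h⟩
    rintro rfl
    obtain ⟨c, hc, h2⟩ := an_iff.1 (show an (fun c => al (fun e => !ieq (dot e.b [1, 0, 0, 0]) 0 ||
      ieq (dot e.b c.cv) 0) dF4.T) dF4.T = true by decide +kernel)
    exact tabF4.not_K1_two h hc h2 (K1_cw tF4 hK w)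
  · exact Or.inr (Or.inl h)
  · exact Or.inr (Or.inr h)

theorem exists_negF4 : ∃ w, ∀ a, wa tF4 w a = -a := ⟨_, tabF4.neg_word negF4⟩

theorem f4_of (hc : BoxConn) {μ : V} {J : List ℕ} {L : List V} (h : pchk 4 dF4 μ μ J L = true) {G : List V}
    (hG : gchk 4 dF4 μ G = true) {j : Fin 4} (hj : toF 4 μ = sr j) {m K : ℤ} {CT : List (V × Bool × List V)}
    {SV : List V} (hk : kchk 4 dF4 m K μ μ G CT L SV = true)
    (he : al (fun lam => an (endI 4 dF4 m K (pl μ lam) (mi μ lam)) (pats [0, 1] 4)) SV = true) {p q r : ℕ}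
    (hm : Md r m K) {g : Lat 4 ≃+ Lat 4} {A B : Lat 4 →+ ZMod r} (C : Cm tF4 p q r g A B) (hκ : Exa tF4 (A + B) μ)
    (hp2 : SV ≠ [] → p ≠ 2) : EndF4 p g A B := by
  obtain ⟨w0, hw0⟩ := exists_negF4
  obtain ⟨u, -, lam, hlam, c, hc0, hA, hB⟩ := tabF4.surv h hk hm C hκ ((hκ.ex1 hj).is hj)
    (tabF4.k3G hc (by norm_num) C hκ hG (neg_of_word hw0 _) (fun v _ => Or.inr (hw0 _)) ((hκ.ex1 hj).eig C C.frX))
  obtain ⟨θ, -, h1⟩ := an_iff.1 (al_iff.1 he lam hlam)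
  exact endF4_of (w := u) ⟨hp2 (List.ne_nil_of_mem hlam), tabF4.end_inv (C.act u) hm hc0 hA hB h1⟩

theorem finF4 (hc : BoxConn) (p q r : ℕ) (g0 g : Lat 4 ≃+ Lat 4) (A B : Lat 4 →+ ZMod r)
    (C0 : Cmb tF4 p q r g0 g A B) : EndF4 p g A B := by
  obtain ⟨w, h⟩ := typesF4 C0.prime C0.five C0.x0 C0.k1x
  have C := (cm_of C0).act w
  refine endF4_of (w := w) ?_
  have g1 : gchk 4 dF4 [1, 0, 0, 0] [] = true := rfl
  have g2 : gchk 4 dF4 [0, 1, 0, 0] [[1, 0, 0, 0]] = true := by decide +kernel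
  have g3 : gchk 4 dF4 [0, 0, 1, 0] [[0, 0, 0, 1]] = true := by decide +kernel
  have j1 : toF 4 [1, 0, 0, 0] = sr 0 := toF_uv (l := 4) 0
  have j2 : toF 4 [0, 1, 0, 0] = sr 1 := toF_uv (l := 4) 1
  have j3 : toF 4 [0, 0, 1, 0] = sr 2 := toF_uv (l := 4) 2
  rcases h with ⟨h2, h⟩ | h | h <;> rcases md_cases C.prime C.five with rfl | rfl | h8
  · exact f4_of hc pF4_1000 g1 j1 kF4_1000_5 eF4_1000_5 md5 C h.cw_add fun _ => h2
  · exact f4_of hc pF4_1000 g1 j1 kF4_1000_7 eF4_1000_7 md7 C h.cw_add fun _ => h2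
  · exact f4_of hc pF4_1000 g1 j1 kF4_1000_0 eF4_1000_0 (md210 C.prime h8) C h.cw_add fun _ => h2
  · exact f4_of hc pF4_0100 g2 j2 kF4_0100_5 rfl md5 C h.cw_add fun h => absurd rfl h
  · exact f4_of hc pF4_0100 g2 j2 kF4_0100_7 rfl md7 C h.cw_add fun h => absurd rfl h
  · exact f4_of hc pF4_0100 g2 j2 kF4_0100_0 rfl (md210 C.prime h8) C h.cw_add fun h => absurd rfl h
  · exact f4_of hc pF4_0010 g3 j3 kF4_0010_5 rfl md5 C h.cw_add fun h => absurd rfl h
  · exact f4_of hc pF4_0010 g3 j3 kF4_0010_7 rfl md7 C h.cw_add fun h => absurd rfl h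
  · exact f4_of hc pF4_0010 g3 j3 kF4_0010_0 rfl (md210 C.prime h8) C h.cw_add fun h => absurd rfl h

/-! ### `D₄` -/

/-- all pairings are even -/
def Zs (z : Lat 4) : Prop := ∀ c, Rt tD4 c → (2 : ℤ) ∣ cp tD4 z c

/-- no fixed point on the centre of the spin group -/
def Tri (g : Lat 4 ≃+ Lat 4) : Prop := ∀ z, Zs z → Cg 2 (g z) z → Cg 2 z 0

theorem Zs.map {z : Lat 4} (hz : Zs z) {g : Lat 4 ≃+ Lat 4} (hr : ∀ a, Rt tD4 (g a) ↔ Rt tD4 a)
    (hcp : ∀ a c, Rt tD4 c → cp tD4 (g a) (g c) = cp tD4 a c) : Zs (g z) := by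
  intro c hc
  have h1 : Rt tD4 (g.symm c) := by rw [← hr, g.apply_symm_apply]; exact hc
  rw [← g.apply_symm_apply c, hcp _ _ h1]
  exact hz _ h1

theorem Zs.wa {z : Lat 4} (hz : Zs z) (w : coxeterD4.Group) : Zs (wa tD4 w z) :=
  hz.map (g := BpExc.Fr.repAut _ tD4.isCartan w) (rt_wa tD4 w) fun a c hc => cp_wa tD4 w a hc

theorem Tri.act {g : Lat 4 ≃+ Lat 4} (h : Tri g) (w : coxeterD4.Group) : Tri (gw tD4 g w) := by
  rintro z hz ⟨y, hy⟩
  obtain ⟨y', hy'⟩ := h _ (hz.wa w) ⟨wa tD4 w y, by rw [← wa_smul, ← wa_add, ← hy, gw_apply, wa_inv']⟩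
  exact ⟨wa tD4 w⁻¹ y', by rw [zero_add, ← wa_smul, ← zero_add (_ • y'), ← hy', wa_inv]⟩

theorem Zs.par {z : Lat 4} (hz : Zs z) : (2 : ℤ) ∣ z 1 ∧ (2 : ℤ) ∣ z 0 + z 2 + z 3 := by
  have h0 := hz _ (rt_sr tD4 0)
  have h1 := hz _ (rt_sr tD4 1)
  rw [cp_sr, ← tabD4.car, psi_apply, Fin.sum_univ_four] at h0 h1
  have e0 : toF 4 (row dD4.C (0 : Fin 4)) = ![2, -1, 0, 0] := by decide +kernel
  have e1 : toF 4 (row dD4.C (1 : Fin 4)) = ![-1, 2, -1, -1] := by decide +kernel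
  rw [e0] at h0
  rw [e1] at h1
  simp only [_root_.Fin.isValue, _root_.Nat.succ_eq_add_one, _root_.Nat.reduceAdd, _root_.Int.reduceNeg, _root_.Matrix.cons_val_zero, _root_.Matrix.cons_val_one, _root_.mul_neg, _root_.mul_one, _root_.Matrix.cons_val, _root_.MulZeroClass.mul_zero, _root_.add_zero, _root_.Int.dvd_mul_self_add, _root_.dvd_neg] at h0 h1
  omega

theorem cg_two {z : Lat 4} (h : ∀ i, (2 : ℤ) ∣ z i) : Cg 2 z 0 := by
  choose k hk using h
  exact ⟨k, by funext i; rw [zero_add, Pi.smul_apply, smul_eq_mul, hk i]; rfl⟩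

theorem tri_of {g0 g : Lat 4 ≃+ Lat 4} (h0 : IsTri g0) (hg : ∃ w, ∀ a, g a = wa tD4 w (g0 a))
    (hr : ∀ a, Rt tD4 (g a) ↔ Rt tD4 a) (hcp : ∀ a c, Rt tD4 c → cp tD4 (g a) (g c) = cp tD4 a c) : Tri g := by
  obtain ⟨σ, h1, h2, h3⟩ := h0
  obtain ⟨w, hw⟩ := hg
  rintro z hz ⟨y, hy⟩
  have h4 : Zs (g0 z) := by
    have := (hz.map hr hcp).wa w⁻¹
    rwa [hw, wa_inv] at this
  obtain ⟨y', hy'⟩ := cg_wa tD4 (n := 2) (z := g0 z) (fun j => by rw [← cp_sr tD4]; exact h4 _ (rt_sr tD4 j)) w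
  have h5 : ∀ k, g0 z (σ k) = z k := by
    intro k
    have h6 := eq_one_coord (crd g0 (σ k)) k (fun k' hk' => by
      rw [crd_apply, h3, sr_ne fun h => hk' (σ.injective h).symm]) z
    rwa [crd_apply, crd_apply, h3, sr_self, mul_one, Int.cast_id] at h6
  have h6 : ∀ k, (2 : ℤ) ∣ z (σ k) - z k := by
    intro k
    have h7 := congrFun (hy.symm.trans ((hw z).trans hy')) (σ k)
    simp only [Pi.add_apply, Pi.smul_apply, smul_eq_mul, h5] at h7
    push_cast at h7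
    omega
  have h7 : ∀ f : Fin 4 → Fin 4, (∀ i j, cartanOf chevD4 4 (f i) (f j) = cartanOf chevD4 4 i j) →
      (∀ i, f (f (f i)) = i) → (∀ i, f i = i) ∨ (f 0 = 2 ∧ f 2 = 3) ∨ (f 0 = 3 ∧ f 3 = 2) := by decide +kernel
  have h8 : ∀ i, σ (σ (σ i)) = i := by
    intro i
    have := pow_orderOf_eq_one σ
    rw [h1] at this
    exact congrArg (fun τ : Equiv.Perm (Fin 4) => τ i) this
  obtain ⟨p1, p2⟩ := hz.par
  refine cg_two ?_
  rcases h7 σ h2 h8 with h9 | h9 | h9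
  · have : σ = 1 := Equiv.ext h9
    rw [this, orderOf_one] at h1
    omega
  · have k0 := h6 0
    have k2 := h6 2
    rw [h9.1] at k0
    rw [h9.2] at k2
    intro i
    fin_cases i <;> simp only [Fin.zero_eta, Fin.mk_one, Fin.reduceFinMk] <;> (clear * - p2 k2 p1 k0; omega)
  · have k0 := h6 0
    have k3 := h6 3
    rw [h9.1] at k0
    rw [h9.2] at k3
    intro i
    fin_cases i <;> simp only [Fin.zero_eta, Fin.mk_one, Fin.reduceFinMk] <;> (clear * - p2 k3 p1 k0; omega)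

theorem not_A3 {r : ℕ} (hr' : r.Prime) {g : Lat 4 ≃+ Lat 4} (ht : Tri g) (hr : ∀ a, Rt tD4 (g a) ↔ Rt tD4 a)
    (hcp : ∀ a c, Rt tD4 c → cp tD4 (g a) (g c) = cp tD4 a c) {φ : Lat 4 →+ ZMod r} {e : ZMod r}
    (he : ∀ a, φ (g a) = e * φ a) {j : Fin 4} (hx : Ex1 tD4 φ j) {z : V} (hl : z.length = 4)
    (hz : al (fun c => zr 2 (dot z c.cv)) dD4.T = true) (h0 : gt z j = 0) {k : Fin 4} (h1 : gt z k = 1)
    (h2 : ∀ y : Lat 4, y j = 0 → (2 : ℤ) ∣ y 1 → (2 : ℤ) ∣ y 0 + y 2 + y 3 →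
      (∀ i, (2 : ℤ) ∣ y i) ∨ ∀ i, (2 : ℤ) ∣ y i - gt z i) : False := by
  have := Fact.mk hr'
  have h3 : Zs (toF 4 z) := by
    refine tabD4.of_T (fun c h => ?_) (P := fun c => Rt tD4 c → (2 : ℤ) ∣ cp tD4 (toF 4 z) c) (fun c hc _ => ?_) |>
      fun h c hc => h c hc hc
    · intro h4
      have h5 : Rt tD4 c := by have := h4.neg; rwa [neg_neg] at this
      rw [cp_neg_right tD4 _ h5, dvd_neg]
      exact h h5
    · rw [tabD4.cpe c hc, psi_toF hl]
      exact zr_iff.1 (al_iff.1 hz c hc)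
  have h4 : g (toF 4 z) j = 0 := by
    rcases hx.res g hr he with h | h
    · rw [h.2, toF_apply, h0]
    · rw [h.2, toF_apply, h0, neg_zero]
  obtain ⟨p1, p2⟩ := (h3.map hr hcp).par
  have h5 : ¬ Cg 2 (toF 4 z) 0 := by
    rintro ⟨y, hy⟩
    have h6 := congrFun hy k
    rw [toF_apply, h1, zero_add, Pi.smul_apply, smul_eq_mul] at h6
    push_cast at h6
    omega
  rcases h2 _ h4 p1 p2 with h6 | h6
  · obtain ⟨y, hy⟩ := cg_two h6
    exact h5 ⟨g.symm y, by rw [zero_add, ← map_zsmul, ← zero_add (_ • y), ← hy, g.symm_apply_apply]⟩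
  · obtain ⟨y, hy⟩ := cg_two (z := g (toF 4 z) - toF 4 z) h6
    exact h5 (ht _ h3 ⟨y, by rw [← zero_add (_ • y), ← hy, add_sub_cancel]⟩)

/-- the type of a Frobenius eigenvector in the triality case -/
theorem typesD4 {r : ℕ} (hr' : r.Prime) (h5 : 5 ≤ r) {p : ℕ} {φ : Lat 4 →+ ZMod r} (h0 : φ ≠ 0)
    (hK : K1 tD4 p (Psi tD4 φ)) {g : Lat 4 ≃+ Lat 4} (ht : Tri g) (hr : ∀ a, Rt tD4 (g a) ↔ Rt tD4 a)
    (hcp : ∀ a c, Rt tD4 c → cp tD4 (g a) (g c) = cp tD4 a c) {e : ZMod r} (he : ∀ a, φ (g a) = e * φ a) :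
    ∃ w, Exa tD4 (cw tD4 φ w) [0, 0, 1, 1] := by
  obtain ⟨w, t, ht', h⟩ := tabD4.types tyD4 hr' h5 h0 hK
  have h1 := tyD4' t ht'
  simp only [List.mem_cons, List.not_mem_nil, or_false] at h1
  have hr2 : ∀ a, Rt tD4 (gw tD4 g w a) ↔ Rt tD4 a := fun a => by rw [gw_apply, rt_wa, hr, rt_wa]
  have hcp2 : ∀ a c, Rt tD4 c → cp tD4 (gw tD4 g w a) (gw tD4 g w c) = cp tD4 a c := fun a c hc => by
    rw [gw_apply, gw_apply, cp_wa tD4 _ _ ((hr _).2 (hc.act w)), hcp _ _ (hc.act w), cp_wa tD4 _ _ hc]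
  have he2 : ∀ a, cw tD4 φ w (gw tD4 g w a) = e * cw tD4 φ w a := fun a => by
    rw [cw_apply, cw_apply, gw_apply, wa_inv', he]
  rcases h1 with h1 | h1 | h1 | h1 <;> rw [h1] at h
  · refine (not_A3 hr' (ht.act w) hr2 hcp2 he2 (h.ex1 (toF_uv (l := 4) 0)) (z := [0, 0, 1, 1]) rfl (by decide +kernel)
      rfl (k := 2) rfl fun y k0 k1 k2 => ?_).elim
    by_cases k : (2 : ℤ) ∣ y 2
    · left; intro i; (revert i; simp only [Fin.zero_eta, Fin.mk_one, Fin.reduceFinMk, _root_.Fin.forall_fin_succ, Fin.isValue, _root_.Fin.succ_zero_eq_one, _root_.Fin.succ_one_eq_two, Fin.reduceSucc, _root_.IsEmpty.forall_iff, _root_.and_true]) <;> (repeat' with_reducible apply And.intro) <;> omega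
    · right; intro i
      fin_cases i
      · show (2 : ℤ) ∣ y 0 - 0; omega
      · show (2 : ℤ) ∣ y 1 - 0; omega
      · show (2 : ℤ) ∣ y 2 - 1; omega
      · show (2 : ℤ) ∣ y 3 - 1; omega
  · refine (not_A3 hr' (ht.act w) hr2 hcp2 he2 (h.ex1 (toF_uv (l := 4) 2)) (z := [1, 0, 0, 1]) rfl (by decide +kernel)
      rfl (k := 0) rfl fun y k0 k1 k2 => ?_).elim
    by_cases k : (2 : ℤ) ∣ y 0
    · left; intro i; (revert i; simp only [Fin.zero_eta, Fin.mk_one, Fin.reduceFinMk, _root_.Fin.forall_fin_succ, Fin.isValue, _root_.Fin.succ_zero_eq_one, _root_.Fin.succ_one_eq_two, Fin.reduceSucc, _root_.IsEmpty.forall_iff, _root_.and_true]) <;> (repeat' with_reducible apply And.intro) <;> omega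
    · right; intro i
      fin_cases i
      · show (2 : ℤ) ∣ y 0 - 1; omega
      · show (2 : ℤ) ∣ y 1 - 0; omega
      · show (2 : ℤ) ∣ y 2 - 0; omega
      · show (2 : ℤ) ∣ y 3 - 1; omega
  · refine (not_A3 hr' (ht.act w) hr2 hcp2 he2 (h.ex1 (toF_uv (l := 4) 3)) (z := [1, 0, 1, 0]) rfl (by decide +kernel)
      rfl (k := 0) rfl fun y k0 k1 k2 => ?_).elim
    by_cases k : (2 : ℤ) ∣ y 0
    · left; intro i; (revert i; simp only [Fin.zero_eta, Fin.mk_one, Fin.reduceFinMk, _root_.Fin.forall_fin_succ, Fin.isValue, _root_.Fin.succ_zero_eq_one, _root_.Fin.succ_one_eq_two, Fin.reduceSucc, _root_.IsEmpty.forall_iff, _root_.and_true]) <;> (repeat' with_reducible apply And.intro) <;> omega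
    · right; intro i
      fin_cases i
      · show (2 : ℤ) ∣ y 0 - 1; omega
      · show (2 : ℤ) ∣ y 1 - 0; omega
      · show (2 : ℤ) ∣ y 2 - 1; omega
      · show (2 : ℤ) ∣ y 3 - 0; omega
  · exact ⟨w, h⟩

theorem finD4 (p q r : ℕ) (g0 g : Lat 4 ≃+ Lat 4) (A B : Lat 4 →+ ZMod r) (h0 : IsTri g0) :
    ¬ Cmb tD4 p q r g0 g A B := by
  intro C0
  have ht := tri_of h0 C0.gr C0.root C0.gcp
  obtain ⟨w, hA⟩ := typesD4 C0.prime C0.five C0.a0 C0.k1a ht C0.root C0.gcp C0.frA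
  have C := (cm_of C0).act w
  obtain ⟨w', hx⟩ := typesD4 C.prime C.five C.x0 C.k1x (ht.act w) C.root C.gcp C.frX
  have e23 : toF 4 [0, 0, 1, 1] = sr 2 + sr 3 := by decide +kernel
  have R : RROK tD4 2 3 [(-1, -1), (-1, 0), (0, -1), (0, 1), (1, 0), (1, 1)] :=
    tabD4.rrok (by decide) (by decide +kernel)
  obtain ⟨ν, c, h1, h2⟩ := tabD4.root_mult C.prime C.five hA C.k2a (u := [2, 1, 0, 0])
    (X := [[-1, 1, 0, 0], [-1, -2, 0, 0]]) (by decide +kernel) (Bs := [[1, 2, 3, 0], [1, 2, 0, 3]])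
    (fun b hb => by
      simp only [List.mem_cons, List.not_mem_nil, or_false] at hb
      rcases hb with rfl | rfl <;> exact tabD4.span_ex C.prime C.five hA C.k2a (by decide +kernel))
    (DT := [([-1, 2, -1, -1], [0, 1, 1, 0], 6, [[1, 2, 0], [1, -4, 0], [-1, 4, 0], [-1, 2, 2]]),
      ([2, -1, 0, 0], [0, -1, -1, 0], 3, [[1, 2, 0], [1, -1, 0], [-1, 1, 0], [-1, 0, 1]]),
      ([1, 1, -1, -1], [1, 2, 1, 1], 3, [[2, -1, -1], [-1, -1, -1], [0, 2, 1], [0, 1, 2]])])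
    (Q := d4chk dD4 2 3 [(-1, -1), (-1, 0), (0, -1), (0, 1), (1, 0), (1, 1)]) (by decide +kernel)
  have h3 := hx.ex2 e23
  refine tabD4.no_A2 R C.prime C.five (hA.ex2 e23) (h2.c_ne C.b0) h2 h1 (x := wa tD4 w' (sr 0)) (y := wa tD4 w' (sr 1))
    ((mem_cw tD4).1 ⟨rt_sr tD4 0, (h3 _ (rt_sr tD4 0)).2 (by decide)⟩)
    ((mem_cw tD4).1 ⟨rt_sr tD4 1, (h3 _ (rt_sr tD4 1)).2 (by decide)⟩) ?_
  rw [cp_wa tD4 _ _ (rt_sr tD4 1), cp_sr, psi_sr]
  decide +kernel

end Cfsg.Agent.Cam.Ex.Cb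
end

-- part: Cam/Ex/Fin
section
/-!
# The finite check `BoxFin` (helper12)
-/

set_option autoImplicit false

namespace Cfsg.Agent.Cam.Ex.Cb

/-- **The finite check.** -/
theorem boxFin (hc : BoxConn) : BoxFin where
  g2 := finG2
  d4 := finD4
  f4 := finF4 hc
  e6 := finE6 hc
  e7 := finE7 hc

end Cfsg.Agent.Cam.Ex.Cb
end

-- part: Cam/Ex/Out3
section
/-!
# Exceptional rows: `Out E₆(4)` has a single subgroup of order three (helper37)

`boxOut3 : BoxOut3`, from S2123 (the order is `12`) and S2159 (the structure).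
-/

set_option autoImplicit false
set_option linter.unusedVariables false
set_option linter.unusedSectionVars false

namespace Cfsg.Agent.Cam.Ex.Out3

open CoxeterSystem Cfsg Cfsg.Lie Subgroup
open Cfsg.Agent.ChevalleyStructure.Elts Cfsg.Agent.ChevalleyStructure.CoxeterGeomTypes
open Cfsg.Agent.KFacts.RgdChevCoord Cfsg.Agent.BpExc Cfsg.Agent.Nodes.RGDChev

section twelve

variable {O : Type*} [Group O]

theorem mem_of_sq {K : Subgroup O} {a : O} (ha : orderOf a = 3) (h : a * a ∈ K) : a ∈ K := by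
  have h1 : a ^ 3 = 1 := by rw [← ha, pow_orderOf_eq_one]
  have h2 : a = (a * a) * (a * a) * (a ^ 3)⁻¹ := by group
  rw [h2, h1, inv_one, mul_one]
  exact mul_mem h h

theorem of_index_two (h12 : Nat.card O = 12) {K : Subgroup O} (hK : K.index = 2) {a b : O} (ha : orderOf a = 3)
    (hb : orderOf b = 3) : b ∈ zpowers a := by
  have haK : a ∈ K := mem_of_sq ha (mul_self_mem_of_index_two hK a)
  have hbK : b ∈ K := mem_of_sq hb (mul_self_mem_of_index_two hK b)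
  have h1 : (zpowers a).index = 4 := by
    have h2 := (zpowers a).card_mul_index
    rw [Nat.card_zpowers, ha, h12] at h2
    omega
  have h2 := relIndex_mul_index (zpowers_le.2 haK)
  rw [h1, hK] at h2
  have h3 : ((zpowers a).subgroupOf K).index = 2 := by
    change (zpowers a).relIndex K = 2
    omega
  exact mem_of_sq hb (mem_subgroupOf.1 (mul_self_mem_of_index_two h3 ⟨b, hbK⟩))

theorem of_index_six (h12 : Nat.card O = 12) {N : Subgroup O} (hN : N.Normal) (h6 : N.index = 6) {a b : O}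
    (ha : orderOf a = 3) (hb : orderOf b = 3) : b ∈ zpowers a := by
  have h2 : Nat.card N = 2 := by
    have h2 := N.card_mul_index
    rw [h6, h12] at h2
    omega
  obtain ⟨z, hz1, hz⟩ := (Nat.card_eq_two_iff' (1 : N)).1 h2
  have hz1' : (z : O) ≠ 1 := fun h => hz1 (Subtype.ext h)
  have h3 : a * z * a⁻¹ = z := by
    refine congrArg Subtype.val (hz ⟨a * z * a⁻¹, hN.conj_mem _ z.2 a⟩ fun h => hz1' ?_)
    have h4 : a * z * a⁻¹ = 1 := congrArg Subtype.val h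
    have h5 : (z : O) = a⁻¹ * (a * z * a⁻¹) * a := by group
    rw [h5, h4]
    group
  have h4 : orderOf (z : O) = 2 := by
    refine orderOf_eq_prime ?_ hz1'
    have h5 := pow_card_eq_one' (x := z)
    rw [h2] at h5
    exact congrArg Subtype.val h5
  have h5 : Commute a (z : O) := mul_inv_eq_iff_eq_mul.1 h3
  have h7 : orderOf (a * z) = 6 := by
    rw [h5.orderOf_mul_eq_mul_orderOf_of_coprime (by rw [ha, h4]; norm_num), ha, h4]
  refine of_index_two h12 (K := zpowers (a * z)) ?_ ha hb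
  have h8 := (zpowers (a * z)).card_mul_index
  rw [Nat.card_zpowers, h7, h12] at h8
  omega

theorem of_index_one (h12 : Nat.card O = 12) {A B : Subgroup O} (hA : A.Normal) (hc : IsMulCommutative A)
    (hB : ∀ x ∈ B, x * x = 1) (h1 : (A ⊔ B).index = 1) {a b : O} (ha : orderOf a = 3) (hb : orderOf b = 3) :
    b ∈ zpowers a := by
  have hfin : Finite O := Nat.finite_of_card_ne_zero (by omega)
  have hsq : ∀ x : O, x * x ∈ A := by
    intro x
    have h2 : x ∈ A ⊔ B := by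
      rw [index_eq_one.1 h1]
      exact mem_top x
    rw [← SetLike.mem_coe, normal_mul] at h2
    obtain ⟨u, hu, v, hv, rfl⟩ := h2
    have h3 : u * v * (u * v) = u * (v * u * v⁻¹) * (v * v) := by group
    show u * v * (u * v) ∈ A
    rw [h3, hB v hv, mul_one]
    exact mul_mem hu (hA.conj_mem u hu v)
  let S : Subgroup O :=
    { carrier := {x | x ∈ A ∧ x ^ 3 = 1}
      one_mem' := ⟨one_mem _, one_pow _⟩
      mul_mem' := fun {x y} hx hy => ⟨mul_mem hx.1 hy.1, by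
        have h2 : Commute x y := congrArg Subtype.val (hc.is_comm.comm (⟨x, hx.1⟩ : A) ⟨y, hy.1⟩)
        rw [h2.mul_pow, hx.2, hy.2, one_mul]⟩
      inv_mem' := fun {x} hx => ⟨inv_mem hx.1, by rw [inv_pow, hx.2, inv_one]⟩ }
  have hmem : ∀ x : O, orderOf x = 3 → x ∈ S := fun x hx =>
    ⟨mem_of_sq hx (hsq x), by rw [← hx, pow_orderOf_eq_one]⟩
  have hS : IsPGroup 3 S := fun x => ⟨1, Subtype.ext (by rw [pow_one]; exact x.2.2)⟩
  have : Fact (Nat.Prime 3) := ⟨Nat.prime_three⟩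
  obtain ⟨k, hk⟩ := IsPGroup.iff_card.1 hS
  have h2 : 3 ^ k ∣ 12 := by
    rw [← hk, ← h12]
    exact S.card_subgroup_dvd_card
  have h3 : k ≤ 1 := by
    by_contra h
    have h4 : 3 ^ 2 ∣ 12 := (pow_dvd_pow 3 (by omega)).trans h2
    norm_num at h4
  have h4 : zpowers a = S := by
    refine eq_of_le_of_card_ge (zpowers_le.2 (hmem a ha)) ?_
    rw [Nat.card_zpowers, ha, hk]
    calc 3 ^ k ≤ 3 ^ 1 := Nat.pow_le_pow_right (by norm_num) h3
      _ = 3 := pow_one 3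
  rw [h4]
  exact hmem b hb

end twelve

/-- transport of outer automorphisms -/
theorem out_congr {K K' : Type*} [Group K] [Group K'] (e : K ≃* K') : Nonempty (Cfsg.Out K ≃* Cfsg.Out K') := by
  refine ⟨QuotientGroup.congr _ _ (MulAut.congr e) ?_⟩
  ext φ
  constructor
  · rintro ⟨_, ⟨g, rfl⟩, rfl⟩
    refine ⟨e g, ?_⟩
    ext x
    simp only [_root_.MulAut.conj_apply, _root_.MonoidHom.coe_coe, _root_.MulAut.congr_apply, _root_.MulEquiv.trans_apply, _root_.map_mul, _root_.MulEquiv.apply_symm_apply, _root_.map_inv]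
  · rintro ⟨g, rfl⟩
    refine ⟨MulAut.conj (e.symm g), ⟨_, rfl⟩, ?_⟩
    ext x
    simp only [_root_.MonoidHom.coe_coe, _root_.MulAut.congr_apply, _root_.MulEquiv.trans_apply, _root_.MulAut.conj_apply, _root_.map_mul, _root_.MulEquiv.apply_symm_apply, _root_.map_inv]

variable {D : ChevalleyDatum} {l : ℕ} {M : CoxeterMatrix (Fin l)} (hp : IsType D l M) {F : Type} [Field F]

include hp in
/-- products of field automorphisms over a field all of whose automorphisms are involutions -/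
theorem sq_field (hF : ∀ (σ : F ≃+* F) (t : F), σ (σ t) = t) {φ : MulAut ↥(D.group F)}
    (hφ : φ ∈ _root_.Subgroup.closure {φ : MulAut ↥(D.group F) | D.IsFieldAut φ}) : φ * φ = 1 := by
  have key : ∃ σ : F ≃+* F, ∀ r, r < D.nroots → ∀ t, φ (xc hp (vec D l r) t) = xc hp (vec D l r) (σ t) := by
    induction hφ using closure_induction with
    | mem φ h =>
      obtain ⟨σ, hσ⟩ := h
      refine ⟨σ, fun r hr t => Subtype.ext (Units.ext ?_)⟩
      rw [hσ _ r t hr (by rw [coe_xc hp hr, coe_xG]), coe_xc hp hr, coe_xG]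
    | one => exact ⟨RingEquiv.refl F, fun _ _ _ => rfl⟩
    | mul φ ψ _ _ h h' =>
      obtain ⟨σ, hσ⟩ := h
      obtain ⟨τ, hτ⟩ := h'
      exact ⟨τ.trans σ, fun r hr t => by rw [MulAut.mul_apply, hτ r hr, hσ r hr, RingEquiv.trans_apply]⟩
    | inv φ _ h =>
      obtain ⟨σ, hσ⟩ := h
      exact ⟨σ, fun r hr t => φ.injective (by rw [MulAut.apply_inv_self, hσ r hr, hF])⟩
  obtain ⟨σ, hσ⟩ := key
  ext1 y
  induction y using FamExt.group_induction hp with
  | h1 => rw [map_one, map_one]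
  | hm a b ha hb => rw [map_mul, map_mul, ha, hb]
  | hi a ha => rw [map_inv, map_inv, ha]
  | hx r hr t => rw [MulAut.mul_apply, hσ r hr, hσ r hr, hF, MulAut.one_apply]

theorem out_e6 [Fintype F] [CharP F 2] (hF : Nat.card F = 2 ^ 2) {a b : Cfsg.Out ↥(chevE6.group F)}
    (ha : orderOf a = 3) (hb : orderOf b = 3) : b ∈ zpowers a := by
  have h12 : Nat.card (Cfsg.Out ↥(chevE6.group F)) = 12 := by
    rw [S2123.result 2 2 (by rw [← hF, Nat.card_eq_fintype_card])]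
    norm_num
  obtain ⟨h1, h2, -, h3, h4⟩ := S2159.result (F := F) chevE6 (by simp) _ _ rfl rfl
  rcases h4 with h4 | h4 | h4
  · refine of_index_one h12 h1 h2 ?_ h4 ha hb
    rintro _ ⟨φ, hφ, rfl⟩
    rw [← map_mul, sq_field tE6 (fun σ t => ?_) hφ, map_one]
    obtain ⟨j, hj⟩ := FamField.exists_pow_eq 2 σ
    rw [hj, hj, ← pow_mul, ← pow_add]
    exact (FamField.forall_pow_iff 2 hF _).2 ⟨j, by ring⟩ t
  · exact of_index_two h12 h4 ha hb
  · exact of_index_six h12 h3 h4.1 ha hb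

/-- **`BoxOut3`.** -/
theorem boxOut3 : BoxOut3 := by
  intro d L _ _ E hq a b ha hb
  have he : E.e = 2 := Nat.pow_right_injective (le_refl 2) hq
  have := Fintype.ofFinite (GaloisField 2 2)
  have hF : Nat.card (GaloisField 2 2) = 2 ^ 2 := GaloisField.card 2 2 (by norm_num)
  obtain ⟨e⟩ := frame_iso E H129.TorusChar.invC_E6 (by norm_num) (Or.inr Nat.prime_three) (GaloisField 2 2)
    (by rw [he]; exact hF) (S1054.result _ (by simp))
  obtain ⟨f⟩ := out_congr e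
  obtain ⟨k, hk⟩ := out_e6 hF ((f.orderOf_eq a).trans ha) ((f.orderOf_eq b).trans hb)
  refine ⟨k, f.injective ?_⟩
  rw [← hk]
  exact map_zpow f a k

end Cfsg.Agent.Cam.Ex.Out3
end

-- part: Cam/Odd/Small
section
/-!
# The small cases of the exceptional rows (helper81)
-/

set_option autoImplicit false
set_option linter.unusedVariables false
set_option linter.unusedSectionVars false

namespace Cfsg.Agent.Cam.Odd

open Cfsg Cfsg.Lie Subgroup
open Cfsg.Agent.Tits.Roots Cfsg.Agent.Nodes.BNOf Cfsg.Agent.Nodes.RGDChev Cfsg.Agent.KFacts.RgdChevCoord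
open Cfsg.Agent.ChevalleyStructure.CoxeterGeom Cfsg.Agent.ChevalleyStructure.CoxeterGeomTypes
open Cfsg.Agent.Cam.Spor Cfsg.Agent.Cam.Ex

variable {D : ChevalleyDatum} {l : ℕ} {M : CoxeterMatrix (Fin l)} {hp : IsType D l M} {p : ℕ} [Fact p.Prime]
  {d : ℕ} {g0 : Lat l ≃+ Lat l} {L : Type} [Group L] [Finite L] {U : Type} [Group U] [Finite U]
  {τ α β : U →* L} {R R' : Subgroup L}

/-- Burnside: the order of a simple group has a prime divisor at least five -/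
theorem exists_five (hs : IsSimpleGroup U) (hU : ¬ IsMulCommutative U) :
    ∃ r : ℕ, r.Prime ∧ 5 ≤ r ∧ r ∣ Nat.card U := by
  by_contra h
  have h1 : ∀ r : ℕ, r.Prime → r ∣ Nat.card U → r ≤ 4 := fun r h1 h2 => by
    by_contra h3
    exact h ⟨r, h1, by omega, h2⟩
  have h3 := Grp5.three_primes hU fun r h2 h4 => (h1 r h2 h4).trans (by norm_num)
  have hle : (Nat.card U).primeFactors ⊆ {2, 3} := by
    intro r hr
    have h2 := Nat.prime_of_mem_primeFactors hr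
    have h4 := h1 r h2 (Nat.dvd_of_mem_primeFactors hr)
    have h5 := h2.two_le
    have h6 : r ≠ 4 := by
      rintro rfl
      norm_num at h2
    simp only [Finset.mem_insert, Finset.mem_singleton]
    omega
  have h7 : (Nat.card U).primeFactors.card ≤ 2 := (Finset.card_le_card hle).trans (by decide)
  omega

theorem p_le_q (E : Frame hp p d g0 L) : p ≤ E.q := Nat.le_self_pow E.he.ne' p

theorem k3_p (C : Core τ α β R R') (h : ∀ r : ℕ, r.Prime → 5 ≤ r → r ∣ Nat.card U → r = p) :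
    5 ≤ p ∧ p ∣ Nat.card U := by
  obtain ⟨r, h1, h2, h3⟩ := exists_five C.simple C.noncomm
  rw [← h r h1 h2 h3]
  exact ⟨h2, h3⟩

theorem noK3_of (h : NoOdd hp d g0) : NoK3 hp d g0 := fun p _ L _ _ E U _ _ τ α β R R' C h5 => by
  have h1 := (k3_p C h5).1
  exact h p L E U τ α β R R' C (by omega) (h1.trans (p_le_q E))

/-- `q ≡ ± 1 (5)`, `q` odd, `p ≠ 5` -/
theorem seven_le (E : Frame hp p d g0 L) (h2 : p ≠ 2) (h5 : 5 ≠ p)
    (h : p = 3 → (E.q : ZMod 5) = 1 ∨ (E.q : ZMod 5) = -1) : 7 ≤ E.q := by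
  by_cases h3 : p = 3
  · have h4 := Five2.four_le E.two_le (h h3)
    have h6 : E.q = 3 ^ E.e := congrArg (· ^ E.e) h3
    rcases (show E.e = 1 ∨ 2 ≤ E.e by have := E.he; omega) with h7 | h7
    · rw [h7] at h6
      omega
    · have h8 : 3 ^ 2 ≤ 3 ^ E.e := Nat.pow_le_pow_right (by norm_num) h7
      omega
  · have h4 := (Fact.out : p.Prime).five_le_of_ne_two_of_ne_three h2 h3
    have h6 : p ≠ 6 := fun e => absurd (e ▸ (Fact.out : p.Prime)) (by decide)
    have h7 := p_le_q E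
    omega

theorem primes_le3 {N : ℕ} (h : ∀ r : ℕ, r.Prime → 7 ≤ r → r ∣ N → r = 3) : ∀ r : ℕ, r.Prime → r ∣ N → r ≤ 5 := by
  intro r h1 h2
  by_contra h3
  by_cases h4 : r = 6
  · subst h4
    exact absurd h1 (by decide)
  · have := h r h1 (by omega) h2
    omega

/-- **The small cases.** -/
theorem boxSmall (big : Big) (bp : BoxP) (be : BoxEnd) (f5 : BoxFin5) (g5 : BoxGrp5) (o3 : BoxOut3) (s3 : BoxSL3)
    (low : BoxLow) (one : BoxOne) (l7 : BoxL7) (grp : BoxGrp) (lin : BoxLin) (nt : BoxNT) (ext : BoxExt)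
    (st : BoxSt) : BoxSmall where
  g2 := noK3_of low.g2
  d4 g0 h := noK3_of (low.d4 g0 h)
  f4 := noK3_of low.f4
  e6 d ε h := noK3_of (low.e6 d ε h)
  e7 d hd p _ L _ _ E U _ _ τ α β R R' C h5 := by
    obtain ⟨h1, h2⟩ := k3_p C h5
    exact no_core7 one l7 grp lin nt ext st hd E C (by omega) (h1.trans (p_le_q E)) (fun h => by omega)
      fun _ => Or.inl h2
  e6five d ε hd p _ L _ _ E U _ _ τ α β R R' ζ u v A B h hc h7 := by
    by_cases h2 : p = 2
    · subst h2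
      exact Five2.e6 big f5 g5 o3 hd E h hc h7
    · have h1 := seven_le E h2 h.ne fun _ => (f5.e6 _ _ _ _ _ _ hc).1
      exact low.e6 d ε hd p L E U τ α β R R' h.core h2 (by omega)
  e7five d hd p _ L _ _ E U _ _ τ α β R R' ζ u v A B h hc h7 := by
    by_cases h2 : p = 2
    · subst h2
      exact Five2.e7 bp be f5 g5 s3 hd E h hc h7
    · have h1 := seven_le E h2 h.ne fun h3 => by
        have h4 := (g5 U h.core.simple h.core.noncomm (primes_le3 fun r k1 k2 k3 => (h7 r k1 k2 k3).trans h3)).1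
        rcases f5.e7 _ _ _ _ _ _ hc (Five2.k5s (by norm_num) h h4) with h5 | ⟨c, c', -, -, ε, h5, -⟩
        · exact h5.1
        · rcases Int.units_eq_one_or ε with rfl | rfl
          · exact Or.inl (by rw [h5]; simp)
          · exact Or.inr (by rw [h5]; simp)
      exact no_core7 one l7 grp lin nt ext st hd E h.core h2 (by omega) (fun _ => h1)
        fun _ => Or.inr ⟨h.ne.symm, u, v, h.ord, h.inv⟩

end Cfsg.Agent.Cam.Odd
end

-- part: Cam/Main
section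
/-!
# S3689: the rows from the last five boxes (helper81)
-/

set_option autoImplicit false

namespace Cfsg.Agent.Cam.Mn

open Cfsg Cfsg.Agent.Cam.Spor Cfsg.Agent.Cam.Ex Cfsg.Agent.Cam.Odd

/-- the sporadic row -/
theorem boxSpor (hb : ∀ (L : Type) [Group L] [Finite L], Big → Spor.IsoB L → NoCore L)
    (hm : ∀ (L : Type) [Group L] [Finite L], Big → Spor.IsoM L → NoCore L) : BoxSpor :=
  fun big red => row_of big red fun L _ _ _ h => by
    rcases h with h | h | h | h | h | h | h | h | h | h | h | h | h | h | h | h | h | h | h | h | h | h | h | h | h | h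
    exacts [⟨rank7_m11 big h, noCore_m11 big h⟩, ⟨rank7_m12 big h, noCore_m12 big h⟩,
      ⟨rank7_m22 big h, noCore_m22 big h⟩, ⟨rank7_m23 big h, noCore_m23 big h⟩, ⟨rank7_m24 big h, noCore_m24 big h⟩,
      ⟨rank7_j1 big h, noCore_j1 big h⟩, ⟨rank7_j2 big h, noCore_j2 big h⟩, ⟨rank7_j3 big h, noCore_j3 big h⟩,
      ⟨rank7_j4 big h, noCore_j4 big h⟩, ⟨rank7_co1 big h, noCore_co1 big h⟩, ⟨rank7_co2 big h, noCore_co2 big h⟩,
      ⟨rank7_co3 big h, noCore_co3 big h⟩, ⟨rank7_mcl big h, noCore_mcl big h⟩, ⟨rank7_hs big h, noCore_hs big h⟩,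
      ⟨rank7_suz big h, noCore_suz big h⟩, ⟨rank7_he big h, noCore_he big h⟩, ⟨rank7_ru big h, noCore_ru big h⟩,
      ⟨rank7_on big h, noCore_on big h⟩, ⟨rank7_ly big h, noCore_ly big h⟩, ⟨rank7_fi22 big h, noCore_fi22 big h⟩,
      ⟨rank7_fi23 big h, noCore_fi23 big h⟩, ⟨rank7_fi24 big h, noCore_fi24 big h⟩,
      ⟨rank7_hn big h, noCore_hn big h⟩, ⟨rank7_th big h, noCore_th big h⟩, ⟨rank7_b big h, hb L big h⟩,
      ⟨rank7_m big h, hm L big h⟩]

/-- the boxes of the exceptional rows -/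
theorem boxes (big : Big) (bp : BoxP) (bu : BoxU) (nt : BoxNT) : Boxes where
  frame := Frm.boxFrame
  chi := boxChi
  tor := boxTor
  bp := bp
  bk := boxK bp
  fin := Cb.boxFin boxConn
  ends := E2.boxEnd' big
  bu := bu
  small := boxSmall big bp (E2.boxEnd' big) (Cb.boxFin5 boxConn) (Grp5.boxGrp5 big) Out3.boxOut3 SL3.boxSL3
    (One.boxLowB big) (One.boxOne big) L7.boxL7 Grp.boxGrp Lin.boxLin nt Ext.boxExt (St.boxSt big)

/-- all rows but `E₈` -/
theorem rows (big : Big) (bp : BoxP) (bu : BoxU) (nt : BoxNT)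
    (hb : ∀ (L : Type) [Group L] [Finite L], Big → Spor.IsoB L → NoCore L)
    (hm : ∀ (L : Type) [Group L] [Finite L], Big → Spor.IsoM L → NoCore L) : Rows where
  alt := Alt.boxAlt
  psl := Cl.Rw.rows.1
  psp := Cl.Rw.rows.2.1
  psu := Cl.Rw.rows.2.2.1
  oodd := Cl.Rw.rows.2.2.2.1
  oplus := Cl.Rw.rows.2.2.2.2.1
  ominus := Cl.Rw.rows.2.2.2.2.2
  g2 := (boxes big bp bu nt).g2
  f4 := (boxes big bp bu nt).f4
  e6 := (boxes big bp bu nt).e6
  e7 := (boxes big bp bu nt).e7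
  te6 := (boxes big bp bu nt).te6
  td4 := (boxes big bp bu nt).td4
  sz := boxSz
  ree := boxRee
  tf4 := F42.box2F4
  tits := boxTits
  spor := boxSpor hb hm

end Cfsg.Agent.Cam.Mn
end

-- part: Cam/Odd/NTAbs
section
/-!
# S3689, `BoxNT`: graded Lie algebras with a non-degenerate trace form (helper86)

`unip_eq_one` : if `g` is a unitriangular automorphism and `g ^ k`, `g` have the same traces `tr (g ad y)`, `k ≠ 1` in
the field, then `g = 1`.
-/

set_option autoImplicit false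
set_option linter.unusedVariables false
set_option linter.unusedSectionVars false

namespace Cfsg.Agent.Cam.Odd.NT

open Matrix Cfsg.Agent.ChevalleyStructure.LieAbs

variable {ι K : Type*} [Fintype ι] [DecidableEq ι] [Field K]

/-- matrices of degree at least `n` -/
def Fl (lv : ι → ℤ) (n : ℤ) (X : Matrix ι ι K) : Prop := ∀ i k, X i k ≠ 0 → lv k + n ≤ lv i

/-- vectors of degree at least `n` -/
def Vl (lv : ι → ℤ) (n : ℤ) (v : ι → K) : Prop := ∀ i, v i ≠ 0 → n ≤ lv i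

/-- the product is graded -/
def Gr (A : ι → Matrix ι ι K) (lv : ι → ℤ) : Prop := ∀ j i k, A j i k ≠ 0 → lv i = lv j + lv k

variable {lv : ι → ℤ} {A : ι → Matrix ι ι K}

theorem Fl.mono {m n : ℤ} {X : Matrix ι ι K} (h : Fl lv n X) (hm : m ≤ n) : Fl lv m X :=
  fun i k hx => by have := h i k hx; omega

theorem Fl.add {n : ℤ} {X Y : Matrix ι ι K} (hX : Fl lv n X) (hY : Fl lv n Y) : Fl lv n (X + Y) := by
  intro i k h
  by_cases h1 : X i k = 0
  · rw [Matrix.add_apply, h1, zero_add] at h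
    exact hY i k h
  · exact hX i k h1

theorem Fl.smul {n : ℤ} {X : Matrix ι ι K} (hX : Fl lv n X) (c : K) : Fl lv n (c • X) :=
  fun i k h => hX i k (right_ne_zero_of_mul h)

theorem Fl.mul {m n : ℤ} {X Y : Matrix ι ι K} (hX : Fl lv m X) (hY : Fl lv n Y) : Fl lv (m + n) (X * Y) := by
  intro i k h
  rw [Matrix.mul_apply] at h
  obtain ⟨j, -, hj⟩ := Finset.exists_ne_zero_of_sum_ne_zero h
  have h1 := hX i j (left_ne_zero_of_mul hj)
  have h2 := hY j k (right_ne_zero_of_mul hj)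
  omega

theorem Fl.one : Fl lv 0 (1 : Matrix ι ι K) := by
  intro i k h
  by_cases h1 : i = k
  · rw [h1, add_zero]
  · exact absurd (Matrix.one_apply_ne h1) h

theorem Fl.zero (n : ℤ) : Fl lv n (0 : Matrix ι ι K) := fun i k h => absurd rfl h

theorem Fl.trace {n : ℤ} {X : Matrix ι ι K} (hX : Fl lv n X) (hn : 1 ≤ n) : X.trace = 0 := by
  refine Finset.sum_eq_zero fun i _ => ?_
  by_contra h
  have := hX i i h
  omega

theorem Fl.mulVec {a n : ℤ} {X : Matrix ι ι K} {v : ι → K} (hX : Fl lv n X) (hv : Vl lv a v) :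
    Vl lv (a + n) (X *ᵥ v) := by
  intro i h
  obtain ⟨j, -, hj⟩ := Finset.exists_ne_zero_of_sum_ne_zero (s := Finset.univ) (f := fun j => X i j * v j) h
  have h1 := hX i j (left_ne_zero_of_mul hj)
  have h2 := hv j (right_ne_zero_of_mul hj)
  omega

theorem Gr.fl (hG : Gr A lv) {a : ℤ} {v : ι → K} (hv : Vl lv a v) : Fl lv a (adv A v) := by
  intro i k h
  rw [adv, Matrix.sum_apply] at h
  obtain ⟨j, -, hj⟩ := Finset.exists_ne_zero_of_sum_ne_zero h
  rw [Matrix.smul_apply, smul_eq_mul] at hj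
  have h1 := hv j (left_ne_zero_of_mul hj)
  have h2 := hG j i k (right_ne_zero_of_mul hj)
  omega

theorem Gr.neg (hG : Gr A lv) : Gr A fun i => -lv i := fun j i k h => by
  have := hG j i k h
  show -lv i = -lv j + -lv k
  omega

theorem Vl.single (j : ι) {a : ℤ} (h : a ≤ lv j) : Vl lv a (Pi.single j (1 : K)) := by
  intro i hi
  by_cases h1 : i = j
  · rwa [h1]
  · exact absurd (Pi.single_eq_of_ne h1 _) hi

theorem trace_adv (X : Matrix ι ι K) (y : ι → K) :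
    (X * adv A y).trace = ∑ j, y j * (X * adv A (Pi.single j 1)).trace := by
  rw [adv, Finset.mul_sum, Matrix.trace_sum]
  refine Finset.sum_congr rfl fun j _ => ?_
  rw [adv_single_one, Matrix.mul_smul, Matrix.trace_smul, smul_eq_mul]

/-- the orthogonal of a term of the filtration -/
theorem perp (hG : Gr A lv) (hκ : ∀ z, (∀ y, (adv A z * adv A y).trace = 0) → z = 0) {c : ℤ} {z : ι → K}
    (h : ∀ y, Vl lv (-c) y → (adv A z * adv A y).trace = 0) : Vl lv (c + 1) z := by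
  let z' : ι → K := fun i => if lv i ≤ c then z i else 0
  have h1 : Vl lv (c + 1) (z - z') := by
    intro i hi
    by_contra hc
    apply hi
    rw [Pi.sub_apply]
    show z i - (if lv i ≤ c then z i else 0) = 0
    rw [if_pos (by omega), sub_self]
  have h2 : Vl (fun i => -lv i) (-c) z' := by
    intro i hi
    by_contra hc
    apply hi
    have hc' : ¬ -c ≤ -lv i := hc
    show (if lv i ≤ c then z i else 0) = 0
    rw [if_neg (by omega)]
  have h3 : z' = 0 := by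
    refine hκ z' fun y => ?_
    rw [trace_adv]
    refine Finset.sum_eq_zero fun j _ => mul_eq_zero_of_right _ ?_
    by_cases hj : -c ≤ lv j
    · have e : adv A z' = adv A z - adv A (z - z') := by rw [← adv_sub, sub_sub_cancel]
      rw [e, Matrix.sub_mul, Matrix.trace_sub, h _ (Vl.single j hj),
        ((hG.fl h1).mul (hG.fl (Vl.single j hj))).trace (by omega), sub_zero]
    · exact ((hG.neg.fl h2).mul (hG.neg.fl (Vl.single (a := c + 1) j (by show c + 1 ≤ -lv j; omega)))).trace (by omega)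
  rwa [h3, sub_zero] at h1

/-- one step -/
theorem step (hJ : ∀ x, Jac A x) (hG : Gr A lv) (hκ : ∀ z, (∀ y, (adv A z * adv A y).trace = 0) → z = 0)
    {N : Matrix ι ι K} (hg : ∀ v, (1 + N) * adv A v = adv A ((1 + N) *ᵥ v) * (1 + N)) {n : ℤ} (hn : 1 ≤ n)
    (hN : Fl lv n N) (h : ∀ y, Vl lv (-n) y → (N * adv A y).trace = 0) : Fl lv (n + 1) N := by
  intro i k hik
  have hx : Vl lv (lv k) (Pi.single k (1 : K)) := Vl.single k le_rfl
  set x : ι → K := Pi.single k 1 with hxd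
  have hz : Vl lv (lv k + n) (N *ᵥ x) := hN.mulVec hx
  have e : adv A (N *ᵥ x) = N * adv A x - adv A x * N - adv A (N *ᵥ x) * N := by
    have h1 := hg x
    rw [Matrix.add_mulVec, Matrix.one_mulVec, adv_add] at h1
    calc adv A (N *ᵥ x) = (adv A x + adv A (N *ᵥ x)) * (1 + N) - adv A x - adv A x * N - adv A (N *ᵥ x) * N := by
          noncomm_ring
      _ = _ := by rw [← h1]; noncomm_ring
  have h2 : Vl lv (lv k + n + 1) (N *ᵥ x) := by
    refine perp hG hκ fun y hy => ?_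
    have h3 := h _ (by
      have h4 := (hG.fl hx).mulVec hy
      rwa [show -(lv k + n) + lv k = -n by ring] at h4)
    rw [hJ x y, Matrix.mul_sub, Matrix.trace_sub] at h3
    have h5 := (((hG.fl hz).mul hN).mul (hG.fl hy)).trace (by omega)
    rw [e, Matrix.sub_mul, Matrix.sub_mul, Matrix.trace_sub, Matrix.trace_sub, h5, sub_zero, Matrix.mul_assoc,
      Matrix.mul_assoc, Matrix.trace_mul_comm (adv A x), Matrix.mul_assoc]
    exact h3
  have h3 : (N *ᵥ x) i = N i k := by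
    rw [hxd, Matrix.mulVec_single_one]
    rfl
  have h4 := h2 i (by rwa [h3])
  omega

theorem pow_fl {N : Matrix ι ι K} {n : ℤ} (hn : 1 ≤ n) (hN : Fl lv n N) (k : ℕ) :
    Fl lv (n + 1) ((1 + N) ^ k - 1 - (k : K) • N) := by
  induction k with
  | zero =>
    rw [pow_zero, sub_self, Nat.cast_zero, zero_smul, sub_zero]
    exact Fl.zero _
  | succ k ih =>
    have e : (1 + N) ^ (k + 1) - 1 - ((k + 1 : ℕ) : K) • N =
        ((1 + N) ^ k - 1 - (k : K) • N) * (1 + N) + (k : K) • (N * N) := by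
      rw [pow_succ, Nat.cast_succ, add_smul, one_smul, Matrix.sub_mul, Matrix.sub_mul, Matrix.smul_mul, Matrix.mul_add N,
        smul_add, Matrix.mul_one, Matrix.one_mul]
      abel
    rw [e]
    exact ((ih.mul (Fl.one.add (hN.mono (by omega)))).mono (by omega)).add (((hN.mul hN).mono (by omega)).smul _)

/-- **unitriangular automorphisms** -/
theorem unip_eq_one (hJ : ∀ x, Jac A x) (hG : Gr A lv) (hκ : ∀ z, (∀ y, (adv A z * adv A y).trace = 0) → z = 0)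
    {g : Matrix ι ι K} (hg : ∀ v, g * adv A v = adv A (g *ᵥ v) * g) (h1 : Fl lv 1 (g - 1)) {k : ℕ} (hk : (k : K) ≠ 1)
    (h : ∀ y, (g ^ k * adv A y).trace = (g * adv A y).trace) : g = 1 := by
  obtain ⟨N, rfl⟩ : ∃ N, g = 1 + N := ⟨g - 1, by abel⟩
  rw [add_sub_cancel_left] at h1
  have h2 : ∀ n : ℕ, Fl lv (n + 1) N := by
    intro n
    induction n with
    | zero => exact h1.mono (by omega)
    | succ n ih =>
      push_cast
      refine step hJ hG hκ hg (by omega) ih fun y hy => ?_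
      have h3 := ((pow_fl (by omega) ih k).mul (hG.fl hy)).trace (by omega)
      have h4 := h y
      rw [Matrix.sub_mul, Matrix.sub_mul, Matrix.trace_sub, Matrix.trace_sub, h4, Matrix.add_mul, Matrix.trace_add,
        Matrix.smul_mul, Matrix.trace_smul, smul_eq_mul] at h3
      refine (mul_eq_zero.1 (?_ : ((k : K) - 1) * (N * adv A y).trace = 0)).resolve_left (sub_ne_zero.2 hk)
      linear_combination -h3
  have h3 : N = 0 := by
    ext i j
    by_contra hij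
    have h4 := h2 (lv i - lv j).toNat i j hij
    omega
  rw [h3, add_zero]

end Cfsg.Agent.Cam.Odd.NT
end
end

-- part: Cam/Odd/NT
section
prune_inst 0x10104d00442210000000050082000240300000000000080080000900010820400000002000200010800200002000004000100100400000000a000000000400001000000000000000200000000000000000000000000000000000000000000000000000000
set_option linter.all false
open scoped Cfsg.Agent.FastGrp

/-!
# S3689, the small cases in odd characteristic: `BoxNT` (helper86)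

`lam g y = tr (g ad y)` is an equivariant family of linear forms on the adjoint module of `E₇`, which is self-dual.
-/

set_option autoImplicit false
set_option linter.unusedVariables false
set_option linter.unusedSectionVars false
set_option maxRecDepth 100000

namespace Cfsg.Agent.Cam.Odd.NT

open Cfsg Cfsg.Lie Matrix
open Cfsg.Agent.ChevalleyStructure Cfsg.Agent.ChevalleyStructure.LieAbs Cfsg.Agent.ChevalleyStructure.LieAut
  Cfsg.Agent.ChevalleyStructure.JacAll Cfsg.Agent.ChevalleyStructure.Columns Cfsg.Agent.ChevalleyStructure.RootVec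
open Cfsg.Agent.Tits.Roots Cfsg.Agent.Nodes.BNOf Cfsg.Agent.Nodes.RGDChev Cfsg.Agent.KFacts.RgdChevCoord
open Cfsg.Agent.R2.T1 Cfsg.Agent.R2.T1.Five
open Cfsg.Agent.H469.Exc Cfsg.Agent.DS.Ex Cfsg.Agent.H129.TorusChar
open Cfsg.Agent.Cam.Ex (tE7)

section lie

variable {K : Type} [Field K]

/-- the matrix of an element -/
def mx (g : ↥(chevE7.group K)) : Matrix chevE7.Idx chevE7.Idx K := ((g : GL chevE7.Idx K) : Matrix chevE7.Idx chevE7.Idx K)

theorem mx_mul (a b : ↥(chevE7.group K)) : mx (a * b) = mx a * mx b := rfl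

theorem mx_one : mx (1 : ↥(chevE7.group K)) = 1 := rfl

theorem mx_pow (a : ↥(chevE7.group K)) (n : ℕ) : mx (a ^ n) = mx a ^ n := by
  induction n with
  | zero => rw [pow_zero, pow_zero, mx_one]
  | succ n ih => rw [pow_succ, pow_succ, mx_mul, ih]

theorem mx_adx (g : ↥(chevE7.group K)) (v : chevE7.Idx → K) : mx g * adx K v = adx K (mx g *ᵥ v) * mx g :=
  group_mul_adv chevE7 inl7 K g g.2 v

theorem kf_mx (g : ↥(chevE7.group K)) (x y : chevE7.Idx → K) : kf K (mx g *ᵥ x) (mx g *ᵥ y) = kf K x y := by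
  obtain ⟨g, rfl⟩ := ad_surjective g
  have h := kf_L g x y
  rwa [R2.T1.L_apply, R2.T1.L_apply] at h

theorem mx_surj (g : ↥(chevE7.group K)) (y : chevE7.Idx → K) : mx g *ᵥ (mx g⁻¹ *ᵥ y) = y := by
  rw [Matrix.mulVec_mulVec, ← mx_mul, mul_inv_cancel, mx_one, Matrix.one_mulVec]

/-- the linear form attached to `g` -/
noncomputable def lam (g : ↥(chevE7.group K)) : (chevE7.Idx → K) →ₗ[K] K where
  toFun y := (mx g * adx K y).trace
  map_add' x y := by rw [adx_add, Matrix.mul_add, Matrix.trace_add]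
  map_smul' c y := by rw [adx_smul, Matrix.mul_smul, Matrix.trace_smul, RingHom.id_apply]

theorem lam_apply (g : ↥(chevE7.group K)) (y : chevE7.Idx → K) : lam g y = (mx g * adx K y).trace := rfl

theorem lam_conj (c g : ↥(chevE7.group K)) (y : chevE7.Idx → K) : lam (c * g * c⁻¹) (mx c *ᵥ y) = lam g y := by
  have e : adx K (mx c *ᵥ y) * mx c = mx c * adx K y := (mx_adx c y).symm
  rw [lam_apply, lam_apply, mx_mul, mx_mul, Matrix.mul_assoc, Matrix.mul_assoc, Matrix.trace_mul_comm, Matrix.mul_assoc,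
    Matrix.mul_assoc, e, ← Matrix.mul_assoc (mx c⁻¹), ← mx_mul, inv_mul_cancel, mx_one, Matrix.one_mul]

theorem lam_congr (c : ↥(chevE7.group K)) {g g' : ↥(chevE7.group K)} (h : lam g = lam g') :
    lam (c * g * c⁻¹) = lam (c * g' * c⁻¹) := by
  refine LinearMap.ext fun y => ?_
  rw [← mx_surj c y, lam_conj, lam_conj, h]

/-- from forms to vectors -/
theorem exists_vec (h2 : (2 : K) ≠ 0) {b n : ↥(chevE7.group K)} (h : lam (n * b * n⁻¹) ≠ lam b) :
    ∃ m, (∀ c, c * b = b * c → mx c *ᵥ m = m) ∧ mx n *ᵥ m ≠ m := by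
  have hi : Function.Injective (kf K) := by
    rw [injective_iff_map_eq_zero]
    intro y hy
    exact kf_nondeg h2 fun x => by rw [kf_comm, hy]; rfl
  have hs : Function.Surjective (kf K) :=
    (LinearMap.injective_iff_surjective_of_finrank_eq_finrank (Subspace.dual_finrank_eq (K := K)).symm).1 hi
  obtain ⟨m, hm⟩ := hs (lam b)
  have h1 : ∀ c, kf K (mx c *ᵥ m) = lam (c * b * c⁻¹) := fun c => by
    refine LinearMap.ext fun y => ?_
    rw [← mx_surj c y, lam_conj, kf_mx, hm]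
  refine ⟨m, fun c hc => hi ?_, fun hn => h ?_⟩
  · rw [h1, hc, mul_inv_cancel_right, hm]
  · rw [← h1, hn, hm]

/-- the trace form is non-degenerate -/
theorem kil (h2 : (2 : K) ≠ 0) (h3 : (3 : K) ≠ 0) (z : chevE7.Idx → K) (h : ∀ y, (adx K z * adx K y).trace = 0) :
    z = 0 := by
  let W : Submodule K (chevE7.Idx → K) :=
    { carrier := {z | ∀ y, (adx K z * adx K y).trace = 0}
      zero_mem' := fun y => by
        have e : adx K (0 : chevE7.Idx → K) = 0 := adv_zero _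
        rw [e, Matrix.zero_mul, Matrix.trace_zero]
      add_mem' := fun {a b} ha hb y => by rw [adx_add, Matrix.add_mul, Matrix.trace_add, ha y, hb y, add_zero]
      smul_mem' := fun c a ha y => by rw [adx_smul, Matrix.smul_mul, Matrix.trace_smul, ha y, smul_zero] }
  have hW : ∀ g : Gh K, ∀ w ∈ W, L K g w ∈ W := by
    intro g w hw y
    have e : y = L K g (L K g⁻¹ y) := by
      rw [← Module.End.mul_apply, ← map_mul, mul_inv_cancel, map_one, Module.End.one_apply]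
    have h1 := BF_inv (z := 1) (g := g) (by rw [mul_one, one_mul]) w (L K g⁻¹ y)
    rw [← e, BF_apply, BF_apply, map_one, Matrix.one_mul, Matrix.one_mul] at h1
    rw [h1]
    exact hw _
  by_contra hz
  have h0 : W ≠ ⊥ := fun e => hz ((Submodule.eq_bot_iff W).1 e z h)
  have h1 : eh K (⟨0, by decide +kernel⟩ : Fin chevE7.rank) ∈ W := by rw [irrL_aux h2 hW h0]; trivial
  have h4 := h1 (eh K ⟨0, by decide +kernel⟩)
  rw [adx_eh, Matrix.diagonal_mul_diagonal, Matrix.trace_diagonal, Fintype.sum_sum_type] at h4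
  have h5 : (((∑ s : Fin chevE7.nroots, car chevE7 0 s.val * car chevE7 0 s.val : ℤ)) : K) = 0 := by
    rw [← h4, Int.cast_sum]
    refine (Finset.sum_congr rfl fun s _ => Int.cast_mul _ _).trans ?_
    exact (zero_add _).symm.trans (congrArg (· + _) (Finset.sum_eq_zero fun i _ => zero_mul _).symm)
  rw [sum72] at h5
  refine mul_ne_zero (mul_ne_zero (mul_ne_zero h2 h2) h2) (mul_ne_zero h3 h3) ?_
  push_cast at h5
  linear_combination h5

theorem EM_lvl {r : ℕ} (hr : r < 126) {i j : chevE7.Idx} (h : EM K r i j ≠ 0) : lvl i = hg r + lvl j := by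
  rcases i with i | u <;> rcases j with j | s
  · exact absurd (EM_ll r i j) h
  · rw [EM_lr] at h
    have h1 : s.val = 125 - r := by
      by_contra h1
      exact h (if_neg h1)
    show (0 : ℤ) = hg r + hg s.val
    rw [h1, hg_neg r hr, add_neg_cancel]
  · rw [EM_rl] at h
    have h1 : u.val = r := by
      by_contra h1
      exact h (if_neg h1)
    show hg u.val = hg r + 0
    rw [h1, add_zero]
  · rw [EM_rr] at h
    exact hg_cf hr fun h0 => h (by rw [h0, Int.cast_zero])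

theorem QM_lvl {r : ℕ} (hr : r < 126) {i j : chevE7.Idx} (h : QM K r i j ≠ 0) : lvl i = 2 * hg r + lvl j := by
  rcases i with i | u <;> rcases j with j | s
  · exact absurd (QM_ll r i j) h
  · exact absurd (QM_lr r i s) h
  · exact absurd (QM_rl r u j) h
  · rw [QM_rr] at h
    have h1 : s.val = 125 - r := by
      by_contra h1
      exact h (if_neg h1)
    have h2 : u.val = r := by
      by_contra h2
      rw [if_pos h1] at h
      exact h (if_neg h2)
    show hg u.val = 2 * hg r + hg s.val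
    rw [h1, h2, hg_neg r hr]
    ring

theorem gr7 : Gr (adR chevE7 K) lvl := by
  intro j i k h
  rcases j with j | r
  · rw [adR_inl_apply] at h
    have h1 : i = k := by
      by_contra h1
      exact h (if_neg h1)
    show lvl i = 0 + lvl k
    rw [h1, zero_add]
  · rw [adR_inr_EM] at h
    exact EM_lvl r.2 h

theorem fl_xc {a : Fin 7 → ℤ} (ha : IsRoot CoxeterMatrix.E₇.toCoxeterSystem tE7.isCartan a) (h0 : 0 ≤ a) (c : K) :
    Fl lvl 1 (mx (xc tE7 a c) - 1) := by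
  obtain ⟨r, hr, rfl⟩ := (isRoot_iff tE7 _ a).1 ha
  have hr' : r < 126 := hr
  have h1 : 1 ≤ hg r := hg_pos r hr' fun j hj => h0 ⟨j, hj⟩
  have e : mx (xc tE7 (vec chevE7 7 r) c) = adM K (xs K r c) := by
    rw [mx, coe_xc tE7 hr, adM_apply]
    exact congrArg Units.val (StTheta.thetaGL_stGen _ r c).symm
  rw [e, adM_xs hr', add_assoc, add_sub_cancel_left]
  refine Fl.add (Fl.smul (fun i k h => ?_) _) (Fl.smul (fun i k h => ?_) _)
  · have := EM_lvl hr' h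
    omega
  · have := QM_lvl hr' h
    omega

end lie

section main

variable {p : ℕ} [hp : Fact p.Prime]

theorem cast_ne {n : ℕ} (h0 : 0 < n) (hn : n < p) : (n : KK p) ≠ 0 := fun h =>
  absurd (Nat.le_of_dvd h0 ((CharP.cast_eq_zero_iff (KK p) p n).1 h)) (by omega)

theorem lam_tor {t : YY chevE7 p} (ht : t ∈ TT chevE7 (KK p)) (i : Fin chevE7.rank) :
    lam t (eh (KK p) i) = ∑ s : Fin chevE7.nroots, cX tE7 t (vec chevE7 7 s.val) * ((car chevE7 i.val s.val : ℤ) : KK p) := by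
  rw [lam_apply, adx_eh, mx, H83.RootCount.coe_eq_diagonal tE7 ht, Matrix.diagonal_mul_diagonal, Matrix.trace_diagonal,
    Fintype.sum_sum_type, Finset.sum_eq_zero fun i _ => mul_zero _, zero_add]
  rfl

/-- elements of order `p` -/
theorem lam_unip (h5 : 5 ≤ p) {b : YY chevE7 p} (hb : orderOf b = p) {k : ℕ} (hk : (k : ZMod p) ≠ 1) :
    lam (b ^ k) ≠ lam b := by
  intro h
  have h2 : (2 : KK p) ≠ 0 := by exact_mod_cast cast_ne (p := p) (n := 2) (by norm_num) (by omega)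
  have h3 : (3 : KK p) ≠ 0 := by exact_mod_cast cast_ne (p := p) (n := 3) (by norm_num) (by omega)
  obtain ⟨g, -, hg⟩ := H378.UnipCent.exists_conj tE7 CoxeterMatrix.E₇.toCoxeterSystem (locFin p) (p := p)
    (one_mem (TT chevE7 (KK p))) (u := b) (by rw [mul_one, one_mul]) (j := 1) (by rw [pow_one]; exact orderOf_dvd_iff_pow_eq_one.1 hb.dvd)
  have h1 : Fl lvl 1 (mx (g * b * g⁻¹) - 1) := by
    refine Subgroup.iSup_induction _ (C := fun y => Fl lvl 1 (mx y - 1)) hg (fun a y hy => ?_) ?_ fun x y hx hy => ?_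
    · obtain ⟨c, rfl⟩ := (DS.Nt.mem_X (hp := tE7) a.2.1.1).1 hy
      exact fl_xc a.2.1.1 a.2.2 c
    · show Fl lvl 1 (mx 1 - 1)
      rw [mx_one, sub_self]
      exact Fl.zero _
    · show Fl lvl 1 (mx (x * y) - 1)
      have e : mx (x * y) - 1 = (mx x - 1) * (mx y - 1) + (mx x - 1) + (mx y - 1) := by
        rw [mx_mul]; noncomm_ring
      rw [e]
      exact (((hx.mul hy).mono (by norm_num)).add hx).add hy
  have h4 := lam_congr g h
  rw [← conj_pow] at h4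
  have hk' : (k : KK p) ≠ 1 := fun e => hk ((algebraMap (ZMod p) (KK p)).injective (by rw [map_natCast, map_one, e]))
  have h6 : mx (g * b * g⁻¹) = 1 := unip_eq_one (jacR_all chevE7 inl7 (KK p)) gr7 (kil h2 h3) (mx_adx _) h1 hk' fun y => by
    rw [← mx_pow]
    exact LinearMap.congr_fun h4 y
  have h7 : g * b * g⁻¹ = 1 := Subtype.ext (Units.ext h6)
  rw [conj_eq_one_iff] at h7
  rw [h7, orderOf_one] at hb
  omega

/-- elements of order five -/
theorem lam_five (h7 : 7 ≤ p) {b : YY chevE7 p} (hb : orderOf b = 5) :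
    lam b⁻¹ ≠ lam b ∨ lam (b ^ 2)⁻¹ ≠ lam (b ^ 2) := by
  by_contra hn
  rw [not_or, not_not, not_not] at hn
  have hb5 : b ^ 5 = 1 := by rw [← hb, pow_orderOf_eq_one]
  obtain ⟨g, hg⟩ := DS.Nt.exists_conj_T tE7 (x := b) Nat.prime_five (by omega) (n := 1) (by rwa [pow_one])
  obtain ⟨ζ, hζ⟩ := DS.Nt.exists_prim (p := p) Nat.prime_five (by omega)
  obtain ⟨w, c, c0, Kc, hc, -⟩ := H931.KC.exists_kac' tE7 (by norm_num) hζ hg (by rw [conj_pow, hb5, mul_one, mul_inv_cancel])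
  obtain ⟨k, hk, hk'⟩ := DS.Nt.exists_move (hp := tE7) hg w
  set t := k * (g * b * g⁻¹) * k⁻¹ with ht
  have e : t = (k * g) * b * (k * g)⁻¹ := by rw [ht]; group
  have hx : ∀ x, cX tE7 t x = ζ ^ (∑ j, x j * (c j : ℤ)) := fun x => (hk' x).trans (hc x)
  have a1 : lam t⁻¹ = lam t := by
    have h1 := lam_congr (k * g) hn.1
    rwa [← conj_inv, ← e] at h1
  have a2 : lam (t ^ 2)⁻¹ = lam (t ^ 2) := by
    have h1 := lam_congr (k * g) hn.2
    rwa [← conj_inv, ← conj_pow, ← e] at h1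
  have hinv : ∀ s ∈ TT chevE7 (KK p), ∀ x, cX tE7 s⁻¹ x = (cX tE7 s x)⁻¹ := fun s hs x => by
    refine eq_inv_of_mul_eq_one_left ?_
    rw [← cX_mul tE7 (inv_mem hs) hs, inv_mul_cancel, cX_one]
  have hsq : ∀ x, cX tE7 (t ^ 2) x = cX tE7 t x ^ 2 := fun x => by rw [pow_two, pow_two, cX_mul tE7 hk hk]
  have hs := Kc.sum
  rw [DS.Nt.hrE7, Fin.sum_univ_seven] at hs
  simp only [Matrix.cons_val] at hs
  rcases chk_gc (a0 := c 0) (a1 := c 1) (a2 := c 2) (a3 := c 3) (a4 := c 4) (a5 := c 5) (a6 := c 6) (by omega) with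
    ⟨z0, z1, z2, z3, z4, z5, z6⟩ | hd
  · have h1 : t ^ 1 = 1 := DS.Nt.pow_eq_one_of_cX (hp := tE7) hk fun x => by
      rw [pow_one, hx, hζ.zpow_eq_one_iff_dvd, Fin.sum_univ_seven, z0, z1, z2, z3, z4, z5]
      have h2 : ((5 : ℕ) : ℤ) ∣ (c 6 : ℤ) := Int.natCast_dvd_natCast.2 (Nat.dvd_of_mod_eq_zero z6)
      simpa using h2.mul_left (x 6)
    rw [pow_one, e, conj_eq_one_iff] at h1
    rw [h1, orderOf_one] at hb
    omega
  · have h1 : p ∣ gc [c 0, c 1, c 2, c 3, c 4, c 5, c 6] := by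
      refine dvd_foldr fun x hx' => ?_
      obtain ⟨i, hi, rfl⟩ := List.mem_map.1 hx'
      have hi' : i < 7 := List.mem_range.1 hi
      have b1 := LinearMap.congr_fun a1 (eh (KK p) ⟨i, hi'⟩)
      have b2 := LinearMap.congr_fun a2 (eh (KK p) ⟨i, hi'⟩)
      rw [lam_tor hk, lam_tor (inv_mem hk), eq_comm, ← sub_eq_zero, ← Finset.sum_sub_distrib] at b1
      rw [lam_tor (pow_mem hk 2), lam_tor (inv_mem (pow_mem hk 2)), eq_comm, ← sub_eq_zero, ← Finset.sum_sub_distrib] at b2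
      have d1 : ((sm [c 0, c 1, c 2, c 3, c 4, c 5, c 6] 1 i : ℤ) : KK p) * (ζ - ζ ^ 4) +
          ((sm [c 0, c 1, c 2, c 3, c 4, c 5, c 6] 2 i : ℤ) : KK p) * (ζ ^ 2 - ζ ^ 3) = 0 := by
        rw [← b1, sm_eq c 1 hi', sm_eq c 2 hi', Int.cast_sum, Int.cast_sum, Finset.sum_mul, Finset.sum_mul,
          ← Finset.sum_add_distrib]
        refine Finset.sum_congr rfl fun s _ => ?_
        rw [hinv t hk, hx, ← sub_mul, (zpow_sub_inv hζ _).1, Int.cast_mul, Int.cast_mul]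
        ring
      have d2 : ((sm [c 0, c 1, c 2, c 3, c 4, c 5, c 6] 1 i : ℤ) : KK p) * (ζ ^ 2 - ζ ^ 3) -
          ((sm [c 0, c 1, c 2, c 3, c 4, c 5, c 6] 2 i : ℤ) : KK p) * (ζ - ζ ^ 4) = 0 := by
        rw [← b2, sm_eq c 1 hi', sm_eq c 2 hi', Int.cast_sum, Int.cast_sum, Finset.sum_mul, Finset.sum_mul,
          ← Finset.sum_sub_distrib]
        refine Finset.sum_congr rfl fun s _ => ?_
        rw [hinv _ (pow_mem hk 2), hsq, hx, ← sub_mul, (zpow_sub_inv hζ _).2, Int.cast_mul, Int.cast_mul]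
        ring
      have h5 : ζ ^ 5 = 1 := hζ.pow_eq_one
      have h6 : 1 + ζ + ζ ^ 2 + ζ ^ 3 + ζ ^ 4 = 0 := by
        have h8 := hζ.geom_sum_eq_zero (by norm_num)
        simpa [Finset.sum_range_succ] using h8
      have h8 : (ζ - ζ ^ 4) ^ 2 + (ζ ^ 2 - ζ ^ 3) ^ 2 = -5 := by
        linear_combination (ζ ^ 3 + ζ - 4) * h5 + h6
      have h9 : (5 : KK p) ≠ 0 := by exact_mod_cast cast_ne (p := p) (n := 5) (by norm_num) (by omega)
      have f : ∀ z : ℤ, 5 * (z : KK p) = 0 → p ∣ z.natAbs := fun z hz =>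
        Int.natCast_dvd.1 ((CharP.intCast_eq_zero_iff (KK p) p z).1 ((mul_eq_zero.1 hz).resolve_left h9))
      refine Nat.dvd_gcd (f _ ?_) (f _ ?_)
      · linear_combination ((sm [c 0, c 1, c 2, c 3, c 4, c 5, c 6] 1 i : ℤ) : KK p) * h8 - (ζ - ζ ^ 4) * d1 -
          (ζ ^ 2 - ζ ^ 3) * d2
      · linear_combination ((sm [c 0, c 1, c 2, c 3, c 4, c 5, c 6] 2 i : ℤ) : KK p) * h8 - (ζ ^ 2 - ζ ^ 3) * d1 +
          (ζ - ζ ^ 4) * d2
    have h2 : p ∣ 6 ^ 2 := h1.trans hd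
    have h3 := Nat.le_of_dvd (by norm_num) (hp.out.dvd_of_dvd_pow h2)
    omega

end main

/-- **`BoxNT`** -/
theorem boxNT : BoxNT where
  np := fun p _ h5 b n k hb hn hk => by
    have h2 : (2 : KK p) ≠ 0 := by exact_mod_cast cast_ne (p := p) (n := 2) (by norm_num) (by omega)
    exact exists_vec h2 (b := b) (n := n) (by rw [hn]; exact lam_unip h5 hb hk)
  n5 := fun p _ h7 b n hb hn => by
    have h2 : (2 : KK p) ≠ 0 := by exact_mod_cast cast_ne (p := p) (n := 2) (by norm_num) (by omega)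
    rcases lam_five h7 hb with h | h
    · exact exists_vec h2 (b := b) (n := n) (by rwa [hn])
    · obtain ⟨m, h3, h4⟩ := exists_vec h2 (b := b ^ 2) (n := n) (by rwa [← conj_pow, hn, inv_pow])
      exact ⟨m, fun c hc => h3 c (Commute.pow_right hc 2), h4⟩

end Cfsg.Agent.Cam.Odd.NT

private theorem dce_aa5fa61cb85f : _root_.True := by
  try have : _root_.True := by simp only [_root_.Cfsg.Agent.Cam.Odd.NT.mx.eq_1]
  exact _root_.True.intro
end

-- part: Cam/All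
section
set_option linter.all false

/-!
# S3689, S3690: all rows but `E₈` from the classification (helper53)
-/

set_option autoImplicit false

namespace Cfsg.Agent.Cam.All

open Cfsg

/-- all rows but `E₈` -/
theorem rows (big : Big) : Rows :=
  Mn.rows big (Ex.P.boxP big) (Ex.Ub.boxU (Ex.P.boxP big)) Odd.NT.boxNT (fun _ _ _ b h => Spor.noCore_b b h)
    fun _ _ _ b h => Spor.noCore_m b h

end Cfsg.Agent.Cam.All
end
end
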